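import Cfsg.Agent.FGS.CO.Defs

/-!
# Theorem Z: definitions
-/

set_option autoImplicit false
open Cfsg Subgroup CL.Th CL.MSS CL.B2

namespace CL.FZ

variable {X : Type*} [Group X]

/-- No conjugacy class of involutions of a solvable `A`-invariant section `N / Y` of `G` is `A`-invariant. -/
def NoInv (A G : Subgroup X) : Prop :=
  ∀ N ≤ G, A ≤ 𝐍 N → Group.IsSolvable N → ∀ Y ≤ N, N ≤ 𝐍 Y → A ≤ 𝐍 Y → ∀ v ∈ N, v * v ∈ Y →
    (∀ a ∈ A, ∃ h ∈ N, h * a * v * (h * a)⁻¹ * v⁻¹ ∈ Y) → v ∈ Y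

/-- The hypotheses of Theorem Z. -/
structure Hz (A G S : Subgroup X) : Prop where
  nrm : A ≤ 𝐍 G
  syl : SylIn 2 S G
  AS : A ≤ 𝐍 S
  solv : ∀ H ≤ G, A ≤ 𝐍 H → H ≠ G → Group.IsSolvable H
  ni : NoInv A G

end CL.FZ
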