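import Cfsg.Agent.FGS.FZ.Ov2
import Cfsg.Agent.FGS.CO.FinB

/-!
# Theorem Z: commuting conjugate blocks with a common centre coincide
-/

set_option autoImplicit false
set_option linter.unusedSectionVars false
open Cfsg Subgroup CL.Th CL.MSS CL.Push CL.BHS CL.B2
open CL.CO CL.CO.FinB
open scoped commutatorElement

namespace CL.FZ

variable {X : Type*} [Group X] [Finite X] {a b c g s t u v w x y z : X}
  {A B D G N P R S U Y : Subgroup X}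

theorem UnG.cj (hG : G.Normal) (h : UnG G N z v) (g : X) : UnG G (g •ᶜ N) (g * z * g⁻¹) (g * v * g⁻¹) := fun P hP PG hN t ht tv => by
  have f : ∀ {t u : X}, t * (g * u * g⁻¹) = g * u * g⁻¹ * t ↔ g⁻¹ * t * g⁻¹⁻¹ * u = u * (g⁻¹ * t * g⁻¹⁻¹) := fun {t u} =>
    ⟨fun e => by
      calc _ = g⁻¹ * (t * (g * u * g⁻¹)) * g := by group
        _ = _ := by rw [e]; group, fun e => by
      calc _ = g * (g⁻¹ * t * g⁻¹⁻¹ * u) * g⁻¹ := by group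
        _ = _ := by rw [e]; group⟩
  obtain ⟨h1, h2⟩ := h _ (isPGroup_cj g⁻¹ hP) ((cj_mono _ PG).trans (cj_eq_of_normal _ G).le) (cj_le_iff.1 hN) _ (conj_mem_cj ht) (f.1 tv)
  refine ⟨f.2 h1, fun u hu uv q => ?_⟩
  have e : ⁅g⁻¹ * t * g⁻¹⁻¹, g⁻¹ * u * g⁻¹⁻¹⁆ = g⁻¹ * ⁅t, u⁆ * g := by simp only [commutatorElement_def]; group
  have := h2 _ (conj_mem_cj hu) (f.1 uv) (by rw [e, ← mem_cj, cj_V4]; exact q)
  rw [e] at this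
  rw [← mul_inv_cancel_left g ⁅t, u⁆, ← mul_inv_cancel_right (g⁻¹ * ⁅t, u⁆) g, this, one_mul, mul_inv_cancel]

theorem BuG.symm (h : BuG G S z v w x y) : BuG G S z w v y x := ⟨h.toBq.symm, h.yG, h.xG, h.ur, h.ul⟩

theorem BuG.cj (hG : G.Normal) (h : BuG G S z v w x y) (hg : g ∈ 𝐍 S) :
    BuG G S (g * z * g⁻¹) (g * v * g⁻¹) (g * w * g⁻¹) (g * x * g⁻¹) (g * y * g⁻¹) := by
  have e : ∀ v w : X, g •ᶜ (S ⊓ 𝐜 v ⊔ zpowers w) = S ⊓ 𝐜 (g * v * g⁻¹) ⊔ zpowers (g * w * g⁻¹) := fun v w => by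
    rw [cj_sup, cj_inf, cj_eq_of_mem_normalizer hg, cj_zpowers, cj_centralizer_singleton]
  exact ⟨h.toBq.cj hg, hG.conj_mem _ h.xG g, hG.conj_mem _ h.yG g, e v w ▸ h.ul.cj hG g, e w v ▸ h.ur.cj hG g⟩

/-- an element of `C_S(v)` normalizing `⟨z, u⟩ ≤ C_S(v)` centralizes `u` -/
theorem BuG.cen (hS : IsPGroup 2 S) (SG : S ≤ G) (k : BuG G S z v w x y) (ht : t ∈ S) (tv : t * v = v * t) (hu : u ∈ S) (uv : u * v = v * u)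
    (uu : u * u = 1) (zu : z * u = u * z) (u1 : u ≠ 1) (uz : u ≠ z) (h : t * u * t⁻¹ ∈ V4 z u) : t * u = u * t := by
  obtain ⟨tz, q⟩ := k.ul S hS SG (sup_le inf_le_left (zpowers_le.2 k.l.wS)) t ht tv
  rcases (mem_V4 k.l.zz uu zu).1 h with e | e | e | e
  · exact absurd (by simpa using e) u1
  · exact absurd (cj_can (e.trans (fx tz).symm)) uz
  · exact cm e
  · have e' : ⁅t, u⁆ = z := by rw [commutatorElement_def, e, ← zu, mul_inv_cancel_right]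
    exact absurd (e' ▸ q u hu uv (e' ▸ z_V4)) k.l.ne

theorem BuG.sc (hG : G.Normal) (hS : IsPGroup 2 S) (SG : S ≤ G) (k : BuG G S z v w x y) (hs : s ∈ S) (sz : s * z = z * s)
    (hc : v * (s * v * s⁻¹) = (s * v * s⁻¹) * v) : s * v * s⁻¹ ∈ V4 z v := by
  by_contra hn
  obtain ⟨s, ⟨hs, sz, hc, hn⟩, mx⟩ := Set.exists_max_image
    {s | s ∈ S ∧ s * z = z * s ∧ v * (s * v * s⁻¹) = (s * v * s⁻¹) * v ∧ s * v * s⁻¹ ∉ V4 z v}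
    (fun s => Nat.card (S ⊓ 𝐜 v ⊓ 𝐜 (s * v * s⁻¹) : Subgroup X)) (Set.toFinite _) ⟨s, hs, sz, hc, hn⟩
  have k₂ := k.cj hG (le_normalizer hs)
  have cc : Nat.card (S ⊓ 𝐜 (s * v * s⁻¹) : Subgroup X) = Nat.card (S ⊓ 𝐜 v : Subgroup X) := by
    rw [← card_cj s (S ⊓ 𝐜 v), cj_inf, cj_eq_of_mem hs, cj_centralizer_singleton]
  rw [fx sz] at k₂
  generalize s * v * s⁻¹ = u, s * w * s⁻¹ = w₂, s * x * s⁻¹ = x₂, s * y * s⁻¹ = y₂ at *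
  have mc := @mem_centralizer_singleton_iff X _
  by_cases hD : S ⊓ 𝐜 v ≤ 𝐜 u
  · have cE : ∀ {g t : X}, g * t = t * g → t ∈ V4 z v ⊔ zpowers u → g * t * g⁻¹ ∈ V4 z v ⊔ zpowers u :=
      fun e h => (fx e).symm ▸ h
    have mu : u ∈ V4 z v ⊔ zpowers u := mem_sup_right (mem_zpowers u)
    have wu := wc k.toBq k₂.l.vS hc.symm k₂.l.vv
    refine e8G k.xG k₂.xG (SG k.l.wS) ((sup_le inf_le_left (zpowers_le.2 k.l.wS)).trans SG) k.l.toA4 k₂.l.toA4 hc hn (k.l.xc u k₂.l.vS hc.symm) (k₂.l.xc v k.l.vS hc) k.l.wz k.l.wv wu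
      (hS.to_le (sup_le inf_le_left (zpowers_le.2 k.l.wS))) (mem_sup_left ⟨k₂.l.vS, mc.2 hc.symm⟩)
      (sup_le (fun c h => mem_nE (cE (k.l.cz c h.1 (mc.1 h.2)) (mem_sup_left z_V4)) (cE (mc.1 h.2) (mem_sup_left v_V4))
        (cE (mc.1 (hD h)) mu)) (zpowers_le.2 (mem_nE (cE k.l.wz (mem_sup_left z_V4))
          (k.l.wv ▸ mem_sup_left (mul_mem v_V4 z_V4)) ?_))) k.ul
    rcases wu with e | e <;> rw [e]
    exacts [mu, mul_mem mu (mem_sup_left z_V4)]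
  obtain ⟨D, eD⟩ : ∃ D, D = S ⊓ 𝐜 v ⊓ 𝐜 u := ⟨_, rfl⟩
  have l1 : D < S ⊓ 𝐜 v := eD ▸ inf_lt_left.2 hD
  have l2 : D < S ⊓ 𝐜 u := lt_of_le_of_ne (eD ▸ inf_le_inf_right _ inf_le_left) fun e =>
    l1.ne (eq_of_le_of_card_ge l1.le (by rw [e, cc]))
  obtain ⟨t, ⟨ht, tD⟩, tn⟩ := SetLike.exists_of_lt (lt_inf_normalizer_of_lt (hS.to_le inf_le_left) l1)
  obtain ⟨t₂, ⟨ht₂, tD₂⟩, tn₂⟩ := SetLike.exists_of_lt (lt_inf_normalizer_of_lt (hS.to_le inf_le_left) l2)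
  have vD : v ∈ D := eD ▸ ⟨⟨k.l.vS, mc.2 rfl⟩, mc.2 hc⟩
  have nV : ∀ {g : X}, g * v = v * g → g * z = z * g → g ∈ 𝐍 (V4 z v) := fun e e' =>
    norm_V4 ((fx e').symm ▸ z_V4) ((fx e).symm ▸ v_V4)
  by_cases hH : S ⊓ 𝐍 D ⊓ 𝐜 z ≤ 𝐍 (V4 z v)
  · have := k₂.cen hS SG ht₂.1 (mc.1 ht₂.2) k.l.vS hc k.l.vv k.l.zv k.l.toA4.v_ne k.l.toA4.v_ne_z
      (cj_mem (hH ⟨⟨ht₂.1, tD₂⟩, mc.2 (k₂.l.cz _ ht₂.1 (mc.1 ht₂.2))⟩) v_V4)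
    exact tn₂ (eD ▸ ⟨⟨ht₂.1, mc.2 this⟩, ht₂.2⟩)
  obtain ⟨g, ⟨⟨⟨gS, gD⟩, gz⟩, gn⟩, gV⟩ := SetLike.exists_of_lt (lt_inf_normalizer_of_lt
    (hS.to_le (inf_le_left.trans inf_le_left)) (inf_lt_left.2 hH))
  have gz' : g * z * g⁻¹ = z := fx (mc.1 gz)
  have tz := k.l.cz t ht.1 (mc.1 ht.2)
  have k₃ := k.cj hG (le_normalizer gS)
  rw [gz'] at k₃
  have v3 : g * v * g⁻¹ ∈ D := cj_mem gD vD
  have c3 : D ≤ 𝐜 (g * v * g⁻¹) := fun d hd => mc.2 (by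
    obtain ⟨d', hd', rfl⟩ := exists_cj gD hd
    rw [conj_mul, conj_mul, mc.1 (l1.le hd').2])
  have n3 : t * (g * v * g⁻¹) * t⁻¹ ∈ V4 z (g * v * g⁻¹) := by
    obtain ⟨t', ht', e⟩ := exists_cj gn (b := t) ⟨⟨⟨ht.1, tD⟩, mc.2 tz⟩, nV (mc.1 ht.2) tz⟩
    have := conj_mem_cj (g := g) (cj_mem ht'.2 (v_V4 (z := z) (v := v)))
    rw [cj_V4, gz'] at this
    rw [← e]
    convert this using 1
    group
  have t3 := k.cen hS SG ht.1 (mc.1 ht.2) k₃.l.vS (mc.1 (l1.le v3).2) k₃.l.vv k₃.l.zv k₃.l.toA4.v_ne k₃.l.toA4.v_ne_z n3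
  have le := mx g ⟨gS, mc.1 gz, (mc.1 (l1.le v3).2).symm, fun q => gV ⟨⟨⟨gS, gD⟩, gz⟩, norm_V4 (gz'.symm ▸ z_V4) q⟩⟩
  rw [← eD] at le
  exact tn (eq_of_le_of_card_ge (le_inf l1.le c3) le ▸ ⟨ht, mc.2 t3⟩)

end CL.FZ
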