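import Cfsg.Agent.FGS.FZ.M0

/-!
# Theorem Z, module lemma: reduction to rank one
-/

set_option autoImplicit false
set_option linter.unusedSectionVars false
open Cfsg Subgroup CL.MSS CL.B2

namespace CL.FZ.Mo

variable {W : Type*} [CommGroup W] [Finite W]

namespace MR

variable {r s a : MulAut W} {Y : Subgroup W} {u : W}

theorem tri (two : ∀ w : W, w * w = 1) (h : orderOf r = 3) (hu : u ∈ cm r) : r u * r⁻¹ u = u := by
  obtain ⟨v, rfl⟩ := mem_cm.1 hu
  have e : r⁻¹ = r * r := inv_eq_of_mul_eq_one_right (by rw [← pow_three, ← h, pow_orderOf_eq_one])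
  have e1 : r⁻¹ (r v) = v := by simp
  have e2 : r⁻¹ v = r (r v) := by rw [e]; rfl
  have i : ∀ w : W, w⁻¹ = w := fun w => inv_eq_of_mul_eq_one_right (two w)
  rw [i, map_mul, map_mul, e1, e2]
  calc r (r v) * r v * (v * r (r v)) = r (r v) * r (r v) * (r v * v) := by ac_rfl
    _ = r v * v := by rw [two, one_mul]

theorem ge4 (two : ∀ w : W, w * w = 1) (h : orderOf s = 3) (hY : Y ≤ cm s) (hi : Iv s Y) (ne : Y ≠ ⊥) :
    4 ≤ Nat.card Y ∧ (4 < Nat.card Y → 16 ≤ Nat.card Y) := by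
  have h1 := card_mod_one two Nat.prime_three (by norm_num) h hY hi
  obtain ⟨n, hn⟩ := card_two_pow two Y
  have h2 : Nat.card Y ≠ 1 := fun e => ne (card_eq_one.1 e)
  rw [hn] at h1 h2 ⊢
  match n, h1, h2 with
  | 0, _, h2 => exact (h2 rfl).elim
  | 1, h1, _ => exact absurd h1 (by decide)
  | 2, _, _ => exact ⟨le_rfl, fun h => absurd h (by decide)⟩
  | 3, h1, _ => exact absurd h1 (by decide)
  | n + 4, _, _ =>
    have : 1 ≤ 2 ^ n := Nat.one_le_two_pow
    rw [pow_add]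
    omega

theorem card_le_map (a : MulAut W) {U U' : Subgroup W} (h : ∀ u ∈ U, a u ∈ U') : Nat.card U ≤ Nat.card U' :=
  Nat.card_le_card_of_injective (fun u : U => (⟨a u, h u u.2⟩ : U')) fun _ _ e =>
    Subtype.ext (a.injective (congrArg Subtype.val e))

theorem split (two : ∀ w : W, w * w = 1) (hs : orderOf s = 3) (hr : orderOf r = 3) (c : s * r = r * s)
    (aa : a * a = 1) (as : a * s = s * a) (ar : a * r * a⁻¹ = r⁻¹) (h1 : Y ≤ cm s) (h2 : Y ≤ cm r)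
    (i1 : Iv s Y) (i2 : Iv r Y) (i3 : Iv a Y) :
    Nat.card Y = Nat.card (Y ⊓ fx (s * r) : Subgroup W) ^ 2 ∧
      Nat.card (Y ⊓ cm (s * r) : Subgroup W) = Nat.card (Y ⊓ fx (s * r) : Subgroup W) := by
  have s3 : s ^ 3 = 1 := hs ▸ pow_orderOf_eq_one s
  have r3 : r ^ 3 = 1 := hr ▸ pow_orderOf_eq_one r
  have cc : Commute s r := c
  have og : Odd (orderOf (s * r)) := Odd.of_dvd_nat (by decide : Odd 3)
    (orderOf_dvd_of_pow_eq_one (by rw [cc.mul_pow, s3, r3, one_mul]))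
  have ri : r⁻¹ = r ^ 2 := inv_eq_of_mul_eq_one_right (by rw [← pow_succ', r3])
  have i2' : Iv r⁻¹ Y := ri ▸ i2.pow 2
  have a1 : a⁻¹ = a := inv_eq_of_mul_eq_one_right aa
  have e1 : a * (s * r) * a⁻¹ = s * r⁻¹ := by rw [← mul_assoc, as, mul_assoc, mul_assoc, ← mul_assoc a, ar]
  have e2 : a * (s * r⁻¹) * a⁻¹ = s * r := by
    rw [← e1, a1]
    calc a * (a * (s * r) * a) * a = a * a * (s * r) * (a * a) := by group
      _ = _ := by rw [aa, one_mul, mul_one]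
  have l1 := card_le_map a (U := Y ⊓ fx (s * r)) (U' := Y ⊓ fx (s * r⁻¹)) fun u hu => ⟨i3 u hu.1, iv_fx e1 hu.2⟩
  have l2 := card_le_map a (U := Y ⊓ fx (s * r⁻¹)) (U' := Y ⊓ fx (s * r)) fun u hu => ⟨i3 u hu.1, iv_fx e2 hu.2⟩
  have d := card_dec two og (i1.mul i2)
  have i : ∀ w : W, w⁻¹ = w := fun w => inv_eq_of_mul_eq_one_right (two w)
  have l3 : Y ⊓ cm (s * r) ≤ Y ⊓ fx (s * r⁻¹) := fun w hw => ⟨hw.1, by
    have m1 : (s * r⁻¹) w * w⁻¹ ∈ cm (s * r) := mul_mem (iv_cm' (g := s * r) (a := s * r⁻¹) (.inl (by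
      rw [mul_inv_eq_iff_eq_mul]
      exact ((Commute.refl s).mul_right cc).mul_left (cc.symm.inv_left.mul_right (Commute.refl r).inv_left))) w hw.2)
      (inv_mem hw.2)
    have m2 : (s * r⁻¹) w * w⁻¹ ∈ fx (s * r) := by
      have t1 := tri two hr (h2 hw.1)
      have t2 := tri two hs (h1 hw.1)
      have si : s⁻¹ = s * s := inv_eq_of_mul_eq_one_right (by rw [← pow_three, s3])
      have t3 : (s * r) ((s * r⁻¹) w) = s⁻¹ w := by
        rw [← MulAut.mul_apply, si]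
        congr 1
        rw [mul_assoc, ← mul_assoc r, ← c]
        group
      rw [mem_fx, i, map_mul, t3, MulAut.mul_apply, MulAut.mul_apply]
      have t4 : s (r w) * s (r⁻¹ w) = s w := by rw [← map_mul, t1]
      calc s⁻¹ w * s (r w) = s⁻¹ w * s (r w) * (s (r⁻¹ w) * s (r⁻¹ w)) := by rw [two, mul_one]
        _ = s (r⁻¹ w) * ((s (r w) * s (r⁻¹ w)) * s⁻¹ w) := by ac_rfl
        _ = _ := by rw [t4, t2]
    have : (s * r⁻¹) w * w⁻¹ ∈ fx (s * r) ⊓ cm (s * r) := ⟨m2, m1⟩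
    rwa [fx_inf_cm two og, mem_bot, mul_inv_eq_one] at this⟩
  have l4 := card_le_of_le l3
  have b : (Y ⊓ fx (s * r)) ⊓ (Y ⊓ fx (s * r⁻¹)) = ⊥ := eq_bot_iff.2 fun w hw => by
    have m : w ∈ fx (s * s) := by
      have : s * s = (s * r) * (s * r⁻¹) := by
        rw [mul_assoc, ← mul_assoc r, ← c]
        group
      rw [mem_fx, this, MulAut.mul_apply, mem_fx.1 hw.2.2, mem_fx.1 hw.1.2]
    have os : Odd (orderOf s) := hs ▸ by decide
    rw [fx_sq os] at m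
    exact (fx_inf_cm two os).le ⟨m, h1 hw.1.1⟩
  have l5 := card_sup_inf (Y ⊓ fx (s * r)) (Y ⊓ fx (s * r⁻¹))
  rw [b, card_bot, mul_one] at l5
  have l6 := card_le_of_le (sup_le inf_le_left inf_le_left : Y ⊓ fx (s * r) ⊔ Y ⊓ fx (s * r⁻¹) ≤ Y)
  have p : 0 < Nat.card (Y ⊓ fx (s * r) : Subgroup W) := Nat.card_pos
  have l7 : Nat.card (Y ⊓ fx (s * r⁻¹) : Subgroup W) ≤ Nat.card (Y ⊓ cm (s * r) : Subgroup W) :=
    Nat.le_of_mul_le_mul_left (by rw [← l5, ← d]; exact l6) p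
  have l8 : Nat.card (Y ⊓ cm (s * r) : Subgroup W) = Nat.card (Y ⊓ fx (s * r) : Subgroup W) := by omega
  exact ⟨by rw [d, l8, sq], l8⟩

/-- the data of a minimal offender -/
structure Dt (F B M : Subgroup (MulAut W)) {n : ℕ} (x a : Fin n → MulAut W) : Prop where
  two : ∀ w : W, w * w = 1
  big : ∀ x ∈ F, Nat.card (cm x) ≤ 4 → x = 1
  el : IsElementaryAbelian 2 B
  fam : TDih.Fam B B M x a
  MF : M ≤ F
  cM : IsMulCommutative M
  c2 : ∀ i, Nat.card (cm (x i) ⊓ fxs B : Subgroup W) = 2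
  o3 : ∀ i, orderOf (x i) = 3

namespace Dt
variable {F B M : Subgroup (MulAut W)} {n : ℕ} {x a : Fin n → MulAut W} (h : Dt F B M x a)
include h

theorem pg : IsPGroup 2 B := fun b => ⟨1, Subtype.ext (by simpa using h.el.2 b.1 b.2)⟩

theorem od (i : Fin n) : Odd (orderOf (x i)) := h.o3 i ▸ by decide

theorem xx (i j : Fin n) : x i * x j * (x i)⁻¹ = x j := mul_inv_eq_iff_eq_mul.2 (h.fam.x_comm h.cM i j)

theorem aa (i : Fin n) : a i * a i = 1 := by rw [← sq]; exact h.el.2 _ (h.fam.amem i)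

theorem ind (i : Fin n) {U U' : Subgroup W} (l : U ≤ cm (x i)) (l' : U' ≤ cm (x i)) (k : ∀ b ∈ B, Iv b U)
    (k' : ∀ b ∈ B, Iv b U') (d : U ⊓ U' = ⊥) (ne : U ≠ ⊥) : U' = ⊥ := by
  by_contra ne'
  have f : ∀ {U : Subgroup W}, U ≤ cm (x i) → (∀ b ∈ B, Iv b U) → U ≠ ⊥ → cm (x i) ⊓ fxs B ≤ U := fun {U} l k ne => by
    have e := exists_fix h.two h.pg k ne
    have e1 : Nat.card (U ⊓ fxs B : Subgroup W) ≠ 1 := fun e' => e (card_eq_one.1 e')
    have e2 : 0 < Nat.card (U ⊓ fxs B : Subgroup W) := Nat.card_pos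
    exact (eq_of_le_of_card_ge (inf_le_inf_right _ l) (by rw [h.c2]; omega)).ge.trans inf_le_left
  have := h.c2 i
  rw [eq_bot_iff.2 ((le_inf (f l k ne) (f l' k' ne')).trans d.le), card_bot] at this
  omega

theorem le_or (i j : Fin n) : cm (x j) ⊓ cm (x i) = ⊥ ∨ cm (x j) ≤ cm (x i) := by
  by_cases e : cm (x j) ⊓ cm (x i) = ⊥
  · exact .inl e
  have := h.ind j (U := cm (x j) ⊓ cm (x i)) (U' := cm (x j) ⊓ fx (x i)) inf_le_left inf_le_left
    (fun b hb => (iv_cm' (h.fam.eig j b hb)).inf (iv_cm' (h.fam.eig i b hb)))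
    (fun b hb => (iv_cm' (h.fam.eig j b hb)).inf (iv_fx' (h.fam.eig i b hb)))
    (eq_bot_iff.2 fun w hw => (fx_inf_cm h.two (h.od i)).le ⟨hw.2.2, hw.1.2⟩) e
  have d := dec h.two (h.od i) (iv_cm' (g := x j) (.inl (h.xx i j)))
  rw [this, bot_sup_eq] at d
  exact .inr (d.le.trans inf_le_right)

theorem cmp (i j : Fin n) : cm (x j) = cm (x i) ∨ cm (x j) ≤ fx (x i) := by
  rcases h.le_or i j with e | e
  · have d := dec h.two (h.od i) (iv_cm' (g := x j) (.inl (h.xx i j)))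
    rw [e, sup_bot_eq] at d
    exact .inr (d.le.trans inf_le_right)
  · rcases h.le_or j i with e' | e'
    · rw [inf_eq_right.2 e] at e'
      exact .inr (e'.le.trans bot_le)
    · exact .inl (e.antisymm e')

theorem step {i j : Fin n} (ij : j ≠ i) {Y : Subgroup W} (h1 : Y ≤ cm (x i)) (h2 : Y ≤ cm (x j))
    (i1 : ∀ l, Iv (x l) Y) (i3 : Iv (a j) Y) :
    Nat.card Y = Nat.card (Y ⊓ fx (x i * x j) : Subgroup W) ^ 2 ∧
      Nat.card (Y ⊓ cm (x i * x j) : Subgroup W) = Nat.card (Y ⊓ fx (x i * x j) : Subgroup W) :=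
  split h.two (h.o3 i) (h.o3 j) (h.fam.x_comm h.cM i j) (h.aa j) (h.fam.comm j i ij) (h.fam.inv j) h1 h2 (i1 i) (i1 j) i3

theorem ivx (i j l : Fin n) : Iv (x l) (fx (x i * x j)) := iv_fx' (.inl (by rw [← conj_mul, h.xx, h.xx]))

theorem iva {i j l : Fin n} (li : l ≠ i) (lj : l ≠ j) : Iv (a l) (fx (x i * x j)) := iv_fx' (.inl (by
  rw [← conj_mul, mul_inv_eq_iff_eq_mul.2 (h.fam.comm l i li), mul_inv_eq_iff_eq_mul.2 (h.fam.comm l j lj)]))

theorem big4 (i : Fin n) (J : Finset (Fin n)) : i ∉ J → ∀ Y : Subgroup W, Y ≠ ⊥ → Y ≤ cm (x i) →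
    (∀ l, Iv (x l) Y) → (∀ j ∈ J, Y ≤ cm (x j) ∧ Iv (a j) Y) → 4 ^ (J.card + 1) ≤ Nat.card Y := by
  induction J using Finset.induction_on with
  | empty => exact fun _ Y ne l k _ => (ge4 h.two (h.o3 i) l (k i) ne).1
  | insert j J hj ih =>
    intro hi Y ne l k m
    rw [Finset.mem_insert, not_or] at hi
    have s := (h.step (Ne.symm hi.1) l (m j (Finset.mem_insert_self _ _)).1 k (m j (Finset.mem_insert_self _ _)).2).1
    have t := ih hi.2 (Y ⊓ fx (x i * x j)) (fun e => ne (card_eq_one.1 (by rw [s, e, card_bot, one_pow])))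
      (inf_le_left.trans l) (fun l => (k l).inf (h.ivx i j l)) fun l hl =>
        ⟨inf_le_left.trans (m l (Finset.mem_insert_of_mem hl)).1, (m l (Finset.mem_insert_of_mem hl)).2.inf
          (h.iva (fun e => hi.2 (e ▸ hl)) fun e => hj (e ▸ hl))⟩
    rw [s, Finset.card_insert_of_notMem hj]
    exact (Nat.pow_le_pow_right (by decide) (by omega)).trans (((pow_mul 4 (J.card + 1) 2).le).trans (Nat.pow_le_pow_left t 2))

theorem cls (i : Fin n) (J : Finset (Fin n)) (hi : i ∉ J) (e : ∀ j ∈ J, cm (x j) = cm (x i)) :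
    4 ^ (J.card + 2) ≤ Nat.card (cm (x i)) := by
  have ne : cm (x i) ≠ ⊥ := fun e => h.fam.ne_one i (eq_one_of_cm e)
  have k : ∀ l, Iv (x l) (cm (x i)) := fun l => iv_cm' (.inl (h.xx l i))
  have k' : ∀ l, Iv (a l) (cm (x i)) := fun l => iv_cm' (h.fam.eig i _ (h.fam.amem l))
  induction J using Finset.induction_on with
  | empty =>
    exact (ge4 h.two (h.o3 i) le_rfl (k i) ne).2 (lt_of_not_ge fun l => h.fam.ne_one i (h.big _ (h.MF (h.fam.mem i)) l))
  | insert j J hj _ =>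
    rw [Finset.mem_insert, not_or] at hi
    have ej := e j (Finset.mem_insert_self _ _)
    obtain ⟨s, s'⟩ := h.step (Ne.symm hi.1) le_rfl ej.ge k (k' j)
    have nb : cm (x i) ⊓ fx (x i * x j) ≠ ⊥ := fun e => ne (card_eq_one.1 (by rw [s, e, card_bot, one_pow]))
    have t := h.big4 i J hi.2 (cm (x i) ⊓ fx (x i * x j)) nb inf_le_left (fun l => (k l).inf (h.ivx i j l)) fun l hl =>
      ⟨inf_le_left.trans (e l (Finset.mem_insert_of_mem hl)).ge, (k' l).inf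
        (h.iva (fun e => hi.2 (e ▸ hl)) fun e => hj (e ▸ hl))⟩
    rw [inf_eq_right.2 ((cm_mul _ _).trans (sup_le le_rfl ej.le))] at s'
    have t' : 4 < Nat.card (cm (x i) ⊓ fx (x i * x j) : Subgroup W) := lt_of_not_ge fun l => nb (card_eq_one.1 (by
      rw [← s', h.big _ (h.MF (mul_mem (h.fam.mem i) (h.fam.mem j))) (s' ▸ l), cm_one, card_bot]))
    have t'' := (ge4 h.two (h.o3 i) inf_le_left ((k i).inf (h.ivx i j i)) nb).2 t'
    rw [s, Finset.card_insert_of_notMem hj, show 4 ^ (J.card + 1 + 2) = (2 ^ (J.card + 3)) ^ 2 by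
      rw [← pow_mul, mul_comm, pow_mul]; rfl]
    refine Nat.pow_le_pow_left ?_ 2
    rcases Nat.eq_zero_or_pos J.card with z | z
    · rw [z]
      omega
    · refine le_trans ?_ t
      rw [show 4 = 2 ^ 2 from rfl, ← pow_mul]
      exact Nat.pow_le_pow_right (by decide) (by omega)

theorem count (J : Finset (Fin n)) : J.Nonempty → ∀ U : Subgroup W, (∀ b ∈ B, Iv b U) → (∀ l, Iv (x l) U) →
    (∀ j ∈ J, cm (x j) ≤ U) → 2 * 4 ^ J.card * Nat.card (U ⊓ fxs B : Subgroup W) ≤ Nat.card U := by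
  classical
  induction J using Finset.strongInduction with
  | H J ih =>
    rintro ⟨i, hi⟩ U k k' m
    let J₀ := (J.filter fun j => cm (x j) = cm (x i)).erase i
    let J₁ := J.filter fun j => ¬ cm (x j) = cm (x i)
    have c : J.card = J₀.card + 1 + J₁.card := by
      rw [Finset.card_erase_add_one (s := J.filter fun j => cm (x j) = cm (x i)) (Finset.mem_filter.2 ⟨hi, rfl⟩),
        Finset.card_filter_add_card_filter_not]
    have l0 := h.cls i J₀ (Finset.notMem_erase _ _) fun j hj => (Finset.mem_filter.1 (Finset.mem_of_mem_erase hj)).2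
    have l1 : 4 ^ J₁.card * Nat.card (U ⊓ fx (x i) ⊓ fxs B : Subgroup W) ≤ Nat.card (U ⊓ fx (x i) : Subgroup W) := by
      rcases J₁.eq_empty_or_nonempty with e | e
      · rw [e, Finset.card_empty, pow_zero, one_mul]
        exact card_le_of_le inf_le_left
      · have := ih J₁ (Finset.filter_ssubset.2 ⟨i, hi, fun e => e rfl⟩) e (U ⊓ fx (x i))
          (fun b hb => (k b hb).inf (iv_fx' (h.fam.eig i b hb))) (fun l => (k' l).inf (iv_fx' (.inl (h.xx l i))))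
          fun j hj => le_inf (m j (Finset.mem_filter.1 hj).1) ((h.cmp i j).resolve_left (Finset.mem_filter.1 hj).2)
        rw [mul_assoc] at this
        omega
    have d := card_dec h.two (h.od i) (k' i)
    have d' := dec h.two (h.od i) (k' i)
    rw [inf_eq_right.2 (m i hi)] at d d'
    have l2 : U ⊓ fxs B ≤ U ⊓ fx (x i) ⊓ fxs B ⊔ cm (x i) ⊓ fxs B := fun w hw => by
      obtain ⟨y, hy, z, hz, rfl⟩ := mem_sup.1 (d'.le hw.1)
      have : ∀ b ∈ B, b y = y ∧ b z = z := fun b hb => by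
        have e := mem_fxs.1 hw.2 b hb
        rw [map_mul] at e
        have e1 : b y * y⁻¹ = z * (b z)⁻¹ := by
          rw [mul_inv_eq_iff_eq_mul, mul_right_comm, eq_mul_inv_iff_mul_eq, e, mul_comm]
        have e2 : b y * y⁻¹ ∈ fx (x i) ⊓ cm (x i) :=
          mem_inf.2 ⟨mul_mem (iv_fx' (h.fam.eig i b hb) y hy.2) (inv_mem hy.2),
            e1 ▸ mul_mem hz (inv_mem (iv_cm' (h.fam.eig i b hb) z hz))⟩
        rw [fx_inf_cm h.two (h.od i), mem_bot] at e2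
        exact ⟨mul_inv_eq_one.1 e2, (mul_inv_eq_one.1 (e1 ▸ e2)).symm⟩
      exact mul_mem_sup ⟨hy, mem_fxs.2 fun b hb => (this b hb).1⟩ ⟨hz, mem_fxs.2 fun b hb => (this b hb).2⟩
    have l3 := card_sup_inf (U ⊓ fx (x i) ⊓ fxs B) (cm (x i) ⊓ fxs B)
    have l4 : Nat.card (U ⊓ fxs B : Subgroup W) ≤ Nat.card (U ⊓ fx (x i) ⊓ fxs B : Subgroup W) * 2 := by
      rw [← h.c2 i, ← l3]
      exact (card_le_of_le l2).trans (Nat.le_mul_of_pos_right _ Nat.card_pos)
    rw [d, c]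
    calc _ ≤ 2 * 4 ^ (J₀.card + 1 + J₁.card) * (Nat.card (U ⊓ fx (x i) ⊓ fxs B : Subgroup W) * 2) :=
          Nat.mul_le_mul_left _ l4
      _ = 4 ^ J₁.card * Nat.card (U ⊓ fx (x i) ⊓ fxs B : Subgroup W) * 4 ^ (J₀.card + 2) := by ring
      _ ≤ _ := Nat.mul_le_mul l1 l0

theorem false (n0 : 0 < n) (le : (fxs B).index ≤ 4 ^ n) : False := by
  have := h.count Finset.univ ⟨⟨0, n0⟩, Finset.mem_univ _⟩ ⊤ (fun _ _ _ _ => trivial) (fun _ _ _ => trivial)
    fun _ _ => le_top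
  rw [top_inf_eq, card_top, ← (fxs B).index_mul_card, Finset.card_univ, Fintype.card_fin] at this
  have p : 0 < 4 ^ n := by positivity
  have := Nat.le_of_mul_le_mul_right this Nat.card_pos
  omega

end Dt

theorem hyp {B : Subgroup (MulAut W)} {x a : MulAut W} (ho : Odd (orderOf x)) (x1 : x ≠ 1)
    (eig : TDih.Eig B x) (ha : a ∈ B) (e : a * x * a⁻¹ = x⁻¹) :
    Nat.card B = 2 * Nat.card (B ⊓ 𝐜 x : Subgroup (MulAut W)) ∧ fxs (B ⊓ 𝐜 x) ⊓ fx a ≤ fxs B := by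
  have na : a ∉ 𝐜 x := fun h => x1 (by
    have e1 : a * x = x * a := mem_centralizer_singleton_iff.1 h
    rw [e1, mul_inv_cancel_right] at e
    have d : orderOf x ∣ 2 := orderOf_dvd_of_pow_eq_one (by rw [sq]; exact mul_eq_one_iff_eq_inv.2 e)
    exact orderOf_eq_one_iff.1 ((Nat.coprime_two_right.2 ho).eq_one_of_dvd d))
  have sp : ∀ b ∈ B, b ∉ 𝐜 x → b * a ∈ 𝐜 x := fun b hb nb => mem_centralizer_singleton_iff.2 (by
    have e1 := (eig b hb).resolve_left fun h => nb (mem_centralizer_singleton_iff.2 (mul_inv_eq_iff_eq_mul.1 h))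
    rw [← mul_inv_eq_iff_eq_mul, mul_inv_rev, mul_assoc b, mul_assoc b, ← mul_assoc (a * x), e, ← mul_assoc, conj_inv.symm, e1,
      inv_inv])
  constructor
  · rw [← CL.card_inf_mul_relIndex (𝐜 x) B, inf_comm, mul_comm]
    congr 1
    refine index_eq_two_iff.2 ⟨⟨a, ha⟩, fun b => ?_⟩
    by_cases hb : (b : MulAut W) ∈ 𝐜 x
    · exact .inr ⟨hb, fun h => na ((mul_mem_cancel_left hb).1 h)⟩
    · exact .inl ⟨sp b b.2 hb, hb⟩
  · intro w hw
    refine mem_fxs.2 fun b hb => ?_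
    by_cases h : b ∈ 𝐜 x
    · exact mem_fxs.1 hw.1 b ⟨hb, h⟩
    · have := mem_fxs.1 hw.1 (b * a) ⟨mul_mem hb ha, sp b hb h⟩
      rwa [MulAut.mul_apply, mem_fx.1 hw.2] at this

end MR

open MR in
/-- A `2F`-offender contains a small involution. -/
theorem Hm.rank {F S B : Subgroup (MulAut W)} (k : Hm F S) (hB : B ≤ S) (el : IsElementaryAbelian 2 B) (ne : B ≠ ⊥)
    (le : (fxs B).index ≤ Nat.card B ^ 2) : ∃ t ∈ B, Tt S t := by
  induction hn : Nat.card B using Nat.strong_induction_on generalizing B with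
  | _ N ih =>
  have pg : IsPGroup 2 B := k.pS.to_le hB
  obtain ⟨n, en⟩ := IsPGroup.iff_card.1 pg
  obtain ⟨M, MF, cM, x, a, fam⟩ := TDih.exists_fam_of_nilpotent el k.odd k.nil (hB.trans k.nrm)
    (eq_bot_iff.2 ((inf_le_inf_right _ hB).trans k.fth.le)) en
  have n0 : 0 < n := Nat.pos_of_ne_zero fun e => ne (card_eq_one.1 (by rw [en, e, pow_zero]))
  have od : ∀ i, Odd (orderOf (x i)) := fun i => k.odd_ord (MF (fam.mem i))
  have aa : ∀ i, a i * a i = 1 := fun i => by rw [← sq]; exact el.2 _ (fam.amem i)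
  have hy := fun i => hyp (od i) (fam.ne_one i) (fam.eig i) (fam.amem i) (fam.inv i)
  by_contra no
  have key : ∀ i, (fxs B).relIndex (fxs (B ⊓ 𝐜 (x i))) < 4 := fun i => by
    have l : fxs B ≤ fxs (B ⊓ 𝐜 (x i)) := fun w hw => mem_fxs.2 fun b hb => mem_fxs.1 hw b hb.1
    have m := relIndex_mul_index l
    by_cases e : B ⊓ 𝐜 (x i) = ⊥
    · exfalso
      refine no ⟨a i, fam.amem i, hB (fam.amem i), aa i, fam.a_ne_one (k.odd.of_dvd_nat (card_dvd_of_le MF)) i, ?_⟩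
      have h1 := (hy i).1
      have h2 := (hy i).2
      rw [e, card_bot] at h1
      rw [h1] at le
      rw [card_cm]
      refine le_trans (index_antitone fun w hw => mem_fxs.1 hw _ (fam.amem i)) le
    · by_contra l4
      have p : 0 < Nat.card (B ⊓ 𝐜 (x i) : Subgroup (MulAut W)) := Nat.card_pos
      obtain ⟨t, ht, h⟩ := ih _ (by rw [← hn, (hy i).1]; omega) (inf_le_left.trans hB)
        ⟨⟨⟨fun b c => Subtype.ext (congrArg (fun y : B => (y : MulAut W)) (el.1.is_comm.comm (⟨b.1, b.2.1⟩ : B) ⟨c.1, c.2.1⟩))⟩⟩,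
          fun b hb => el.2 b hb.1⟩ e (by
          rw [← m, (hy i).1, mul_pow] at le
          have := Nat.mul_le_mul_right (fxs (B ⊓ 𝐜 (x i))).index (not_lt.1 l4)
          omega) rfl
      exact no ⟨t, ht.1, h⟩
  have key2 : ∀ i, Nat.card (cm (x i) ⊓ fxs B : Subgroup W) = 2 ∧ orderOf (x i) = 3 := fun i => by
    have ic : ∀ b ∈ B, Iv b (cm (x i)) := fun b hb => iv_cm' (fam.eig i b hb)
    have ix : Iv (x i) (cm (x i) ⊓ fxs (B ⊓ 𝐜 (x i))) := (iv_of_cm_le le_rfl).inf fun u hu => mem_fxs.2 fun b hb => by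
      rw [← MulAut.mul_apply, mem_centralizer_singleton_iff.1 hb.2, MulAut.mul_apply, mem_fxs.1 hu b hb]
    have ia : Iv (a i) (cm (x i) ⊓ fxs (B ⊓ 𝐜 (x i))) := (ic _ (fam.amem i)).inf fun u hu => mem_fxs.2 fun b hb => by
      have : b * a i = a i * b := congrArg Subtype.val (el.1.is_comm.comm (⟨b, hb.1⟩ : B) ⟨a i, fam.amem i⟩)
      rw [← MulAut.mul_apply, this, MulAut.mul_apply, mem_fxs.1 hu b hb]
    have h1 := (half k.two (od i) (aa i) (fam.inv i) inf_le_left ix ia).1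
    have e : cm (x i) ⊓ fxs (B ⊓ 𝐜 (x i)) ⊓ fx (a i) = cm (x i) ⊓ fxs B := le_antisymm
      (fun w hw => ⟨hw.1.1, (hy i).2 ⟨hw.1.2, hw.2⟩⟩) fun w hw =>
        ⟨⟨hw.1, mem_fxs.2 fun b hb => mem_fxs.1 hw.2 b hb.1⟩, mem_fxs.1 hw.2 _ (fam.amem i)⟩
    rw [e] at h1
    have h2 := CL.card_inf_mul_relIndex (fxs B) (cm (x i) ⊓ fxs (B ⊓ 𝐜 (x i)))
    have e' : fxs B ⊓ (cm (x i) ⊓ fxs (B ⊓ 𝐜 (x i))) = cm (x i) ⊓ fxs B := le_antisymm
      (fun w hw => ⟨hw.2.1, hw.1⟩) fun w hw => ⟨hw.2, hw.1, mem_fxs.2 fun b hb => mem_fxs.1 hw.2 b hb.1⟩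
    have h3 : (fxs B).relIndex (cm (x i) ⊓ fxs (B ⊓ 𝐜 (x i))) < 4 :=
      lt_of_le_of_lt (relIndex_le_of_le_right inf_le_right (index_ne_zero_of_finite)) (key i)
    rw [e', h1, sq] at h2
    rw [Nat.eq_of_mul_eq_mul_left Nat.card_pos h2] at h3
    have h4 : Nat.card (cm (x i) ⊓ fxs B : Subgroup W) ≠ 1 := fun e => exists_fix k.two pg ic
      (fun e => fam.ne_one i (eq_one_of_cm e)) (card_eq_one.1 e)
    obtain ⟨m, hm⟩ := card_two_pow k.two (cm (x i) ⊓ fxs B)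
    have h5 : Nat.card (cm (x i) ⊓ fxs B : Subgroup W) = 2 := by
      rw [hm] at h3 h4 ⊢
      match m, h3, h4 with
      | 0, _, h4 => exact (h4 rfl).elim
      | 1, _, _ => rfl
      | m + 2, h3, _ =>
        have : 1 ≤ 2 ^ m := Nat.one_le_two_pow
        rw [pow_add] at h3
        omega
    refine ⟨h5, ?_⟩
    have h6 := card_mod_one k.two (fam.prime i) (fun e => absurd (e ▸ od i) (by decide)) rfl inf_le_left ix
    rw [h1, h5] at h6
    exact (Nat.prime_dvd_prime_iff_eq (fam.prime i) Nat.prime_three).1 ((Nat.modEq_iff_dvd' (by decide)).1 h6.symm)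
  exact Dt.false ⟨k.two, k.big, el, fam, MF, cM, fun i => (key2 i).1, fun i => (key2 i).2⟩ n0 (by
    rwa [en, ← pow_mul, mul_comm, pow_mul] at le)

end CL.FZ.Mo
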