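import Cfsg.Agent.FGS.FZ.Defs

/-!
# Theorem Z: module lemma T
-/

set_option autoImplicit false
set_option linter.unusedSectionVars false
open Cfsg Subgroup CL.Th CL.MSS CL.B2
open scoped commutatorElement

namespace CL.FZ

namespace Tor

section Abs
variable {Γ W : Type*} [Group Γ] [AddCommGroup W] [DistribMulAction Γ W]

variable (W) in
/-- `w ↦ k w - w` -/
def d (k : Γ) : W →+ W := AddMonoidHom.mk' (fun w => k • w - w) fun a b => by rw [smul_add]; abel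

theorem d_ap (k : Γ) (w : W) : d W k w = k • w - w := rfl

variable (W) in
/-- `[W, k]` -/
def Z (k : Γ) : AddSubgroup W := (d W k).range

variable (W) in
/-- `⟨k⟩` is transitive on `[W, k]#` -/
def Tr (k : Γ) : Prop := ∀ u ∈ Z W k, ∀ u' ∈ Z W k, u ≠ 0 → u' ≠ 0 → ∃ n : ℕ, k ^ n • u = u'

variable (W) in
/-- the fixed points -/
def Fx (E : Subgroup Γ) : AddSubgroup W where
  carrier := {w | ∀ e ∈ E, e • w = w}
  zero_mem' := fun _ _ => smul_zero _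
  add_mem' := fun a b e he => by rw [smul_add, a e he, b e he]
  neg_mem' := fun a e he => by rw [smul_neg, a e he]

variable (Γ W) in
/-- the kernel of the action -/
def Ke : Subgroup Γ where
  carrier := {g | ∀ w : W, g • w = w}
  one_mem' := fun _ => one_smul _ _
  mul_mem' := fun a b w => by rw [mul_smul, b, a]
  inv_mem' := fun a w => by rw [inv_smul_eq_iff, a]

variable (W) in
/-- no failure of factorization -/
def FF (H : Subgroup Γ) : Prop :=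
  ∀ E ≤ H, (∀ e ∈ E, e * e ∈ Ke Γ W) → ¬ E ≤ Ke Γ W → (Ke Γ W).relIndex E < (Fx W E).index

variable {k k₁ k₂ g : Γ} {H : Subgroup Γ} {q : ℕ} {x y z : W}

theorem ne0 (g : Γ) (n : z ≠ 0) : g • z ≠ 0 := fun e => n (by rw [← inv_smul_smul g z, e, smul_zero])

theorem d_mem (k : Γ) (w : W) : k • w - w ∈ Z W k := ⟨w, rfl⟩

theorem inv_d (k : Γ) (w : W) : k⁻¹ • w - w ∈ Z W k := by
  have := neg_mem (d_mem k (k⁻¹ • w))
  rwa [smul_inv_smul, neg_sub] at this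

theorem Z_smul (hz : z ∈ Z W k) : k • z ∈ Z W k := by
  have := add_mem (d_mem k z) hz
  rwa [sub_add_cancel] at this

theorem Z_cj (g : Γ) (hz : z ∈ Z W k) : g • z ∈ Z W (g * k * g⁻¹) := by
  obtain ⟨w, rfl⟩ := hz
  exact ⟨g • w, by rw [d_ap, d_ap, mul_smul, inv_smul_smul, mul_smul, smul_sub]⟩

theorem Z_cj' (hz : z ∈ Z W (g * k * g⁻¹)) : g⁻¹ • z ∈ Z W k := by
  have := Z_cj g⁻¹ hz
  rwa [show g⁻¹ * (g * k * g⁻¹) * g⁻¹⁻¹ = k by group] at this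

theorem pow_fix (e : k • z = z) (n : ℕ) : k ^ n • z = z := by
  induction n with
  | zero => rw [pow_zero, one_smul]
  | succ n ih => rw [pow_succ, mul_smul, e, ih]

theorem pow_d (k : Γ) (n : ℕ) (w : W) : (k ^ n)⁻¹ • w - w ∈ Z W k := by
  induction n with
  | zero => simp
  | succ n ih =>
    have := add_mem (inv_d k ((k ^ n)⁻¹ • w)) ih
    rwa [sub_add_sub_cancel, ← mul_smul, ← mul_inv_rev, ← pow_succ] at this

theorem pow_Z (hz : z ∈ Z W k) (n : ℕ) : k ^ n • z ∈ Z W k := by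
  induction n with
  | zero => rwa [pow_zero, one_smul]
  | succ n ih => rw [pow_succ', mul_smul]; exact Z_smul ih

variable [Finite W] (two : ∀ w : W, w + w = 0) (ff : FF W H)

include two ff in
theorem off (h2 : k₂ ∈ H) (t : Tr W k₂) (h1 : ∀ z ∈ Z W k₂, k₁ • z = z) (c : Nat.card (Z W k₁) ≤ Nat.card (Z W k₂))
    {e₀ : Γ} (h0 : e₀ ∈ H) (a0 : ∀ w : W, e₀ • w - w ∈ Z W k₂) (b0 : ∀ w : W, k₁ • w = w → e₀ • w = w) {w₀ : W}
    (n0 : e₀ • w₀ ≠ w₀) : False := by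
  let E : Subgroup Γ :=
    { carrier := {e | e ∈ H ∧ (∀ w : W, e • w - w ∈ Z W k₂) ∧ ∀ w : W, k₁ • w = w → e • w = w}
      one_mem' := ⟨one_mem _, fun w => by simp, fun w _ => one_smul _ _⟩
      mul_mem' := fun {a b} ha hb => ⟨mul_mem ha.1 hb.1, fun w => by
        have := add_mem (ha.2.1 (b • w)) (hb.2.1 w)
        rwa [sub_add_sub_cancel, ← mul_smul] at this, fun w e => by rw [mul_smul, hb.2.2 w e, ha.2.2 w e]⟩
      inv_mem' := fun {a} ha => ⟨inv_mem ha.1, fun w => by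
        have := neg_mem (ha.2.1 (a⁻¹ • w))
        rwa [smul_inv_smul, neg_sub] at this, fun w e => by rw [inv_smul_eq_iff, ha.2.2 w e]⟩ }
  have k := ff E (fun e he => he.1) (fun e he w => by
    have e1 := he.2.2 _ (h1 _ (he.2.1 w))
    rw [smul_sub, sub_eq_iff_eq_add] at e1
    rw [mul_smul, e1, show e • w - w + e • w = (e • w + e • w) - w by abel, two, zero_sub, neg_eq_iff_add_eq_zero, two])
    (fun h => n0 (h ⟨h0, a0, b0⟩ w₀))
  have l1 : (Fx W E).index ≤ Nat.card (Z W k₁) := by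
    rw [Z, ← AddSubgroup.index_ker]
    exact AddSubgroup.index_antitone fun w hw e he => he.2.2 w (sub_eq_zero.1 hw)
  have l2 : Nat.card (Z W k₂) ≤ (Ke Γ W).relIndex E := by
    have fin : Finite (E ⧸ (Ke Γ W).subgroupOf E) := Finite.of_injective
      (Quotient.lift (s := QuotientGroup.leftRel _) (fun (e : E) (w : W) => (e : Γ) • w) fun a b h => funext fun w => by
        have := QuotientGroup.leftRel_apply.1 h w
        rw [coe_subtype, coe_mul, coe_inv, mul_smul, inv_smul_eq_iff] at this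
        exact this.symm) (by
      rintro ⟨a⟩ ⟨b⟩ h
      exact Quotient.sound (QuotientGroup.leftRel_apply.2 fun w => by
        rw [coe_subtype, coe_mul, coe_inv, mul_smul, inv_smul_eq_iff]
        exact (congrFun h w).symm))
    refine Nat.card_le_card_of_surjective
      (Quotient.lift (s := QuotientGroup.leftRel _) (fun e : E => (⟨(e : Γ) • w₀ - w₀, e.2.2.1 w₀⟩ : Z W k₂)) fun a b h => ?_) ?_
    · have := QuotientGroup.leftRel_apply.1 h w₀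
      rw [coe_subtype, coe_mul, coe_inv, mul_smul, inv_smul_eq_iff] at this
      exact Subtype.ext (by simp only [this])
    · rintro ⟨z, hz⟩
      by_cases z0 : z = 0
      · exact ⟨Quotient.mk _ 1, Subtype.ext (by simp [z0])⟩
      obtain ⟨n, hn⟩ := t _ (a0 w₀) z hz (sub_ne_zero.2 n0) z0
      have fx : ∀ w : W, e₀ • (k₂ ^ n)⁻¹ • w - (k₂ ^ n)⁻¹ • w = e₀ • w - w := fun w => by
        have := b0 _ (h1 _ (pow_d k₂ n w))
        rw [smul_sub, sub_eq_sub_iff_sub_eq_sub] at this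
        exact this
      have fy : ∀ w : W, (k₂ ^ n * e₀ * (k₂ ^ n)⁻¹) • w - w = k₂ ^ n • (e₀ • w - w) := fun w => by
        rw [← fx, smul_sub, smul_inv_smul, mul_smul, mul_smul]
      refine ⟨Quotient.mk _ ⟨k₂ ^ n * e₀ * (k₂ ^ n)⁻¹, mul_mem (mul_mem (pow_mem h2 n) h0) (inv_mem (pow_mem h2 n)),
        fun w => fy w ▸ pow_Z (a0 w) n, fun w e => sub_eq_zero.1 (by rw [fy, b0 w e, sub_self, smul_zero])⟩,
        Subtype.ext ((fy w₀).trans hn)⟩
  omega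

variable (W) in
/-- a line -/
structure Ln (H : Subgroup Γ) (q : ℕ) (k : Γ) : Prop where
  mem : k ∈ H
  tr : Tr W k
  card : Nat.card (Z W k) = q
  ne : ∃ z ∈ Z W k, z ≠ 0

omit [Finite W] in
theorem Ln.cj (l : Ln W H q k) (hg : g ∈ normalizer (H : Set Γ)) : Ln W H q (g * k * g⁻¹) := by
  refine ⟨(mem_normalizer_iff.1 hg k).1 l.mem, fun u hu u' hu' n n' => ?_, ?_, ?_⟩
  · obtain ⟨m, e⟩ := l.tr _ (Z_cj' hu) _ (Z_cj' hu') (ne0 _ n) (ne0 _ n')
    exact ⟨m, by rw [conj_pow, mul_smul, mul_smul, e, smul_inv_smul]⟩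
  · rw [← l.card]
    exact Nat.card_congr ⟨fun z => ⟨g⁻¹ • z.1, Z_cj' z.2⟩, fun z => ⟨g • z.1, Z_cj g z.2⟩,
      fun z => Subtype.ext (smul_inv_smul _ _), fun z => Subtype.ext (inv_smul_smul _ _)⟩
  · obtain ⟨z, hz, n⟩ := l.ne
    exact ⟨g • z, Z_cj g hz, ne0 _ n⟩

include two ff in
theorem Ln.nofix (l : Ln W H q k) (hz : z ∈ Z W k) (e : k • z = z) : z = 0 := by
  by_contra n
  obtain ⟨w, rfl⟩ := hz
  refine off two ff l.mem l.tr (k₁ := k) (fun y hy => ?_) le_rfl l.mem (d_mem k) (fun _ h => h) (w₀ := w) (sub_ne_zero.1 n)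
  by_cases y0 : y = 0
  · rw [y0, smul_zero]
  obtain ⟨m, e'⟩ := l.tr _ ⟨w, rfl⟩ y hy n y0
  rw [← e', pow_fix e, e]

include two ff in
theorem Ln.onto (l : Ln W H q k) (x : W) : ∃ f ∈ Z W k, d W k f = d W k x := by
  have i : Function.Injective fun z : Z W k => (⟨d W k z, z, rfl⟩ : Z W k) := fun a b e => Subtype.ext (sub_eq_zero.1
    (l.nofix two ff (sub_mem a.2 b.2) (sub_eq_zero.1 (show d W k _ = 0 by rw [map_sub, sub_eq_zero]; exact congrArg Subtype.val e))))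
  obtain ⟨f, e⟩ := Finite.surjective_of_injective i ⟨_, x, rfl⟩
  exact ⟨f, f.2, congrArg Subtype.val e⟩

variable (W) in
/-- the group generated by the lines -/
def NN (H : Subgroup Γ) (q : ℕ) : Subgroup Γ := closure {k | Ln W H q k}

omit [Finite W] in
theorem NN_le : NN W H q ≤ H := (closure_le _).2 fun _ l => l.mem

omit [Finite W] in
theorem NN_cj (hg : g ∈ normalizer (H : Set Γ)) {n : Γ} (hn : n ∈ NN W H q) : g * n * g⁻¹ ∈ NN W H q := by
  induction hn using closure_induction with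
  | mem x hx => exact subset_closure (Ln.cj hx hg)
  | one => simp
  | mul x y _ _ a b => rw [← conj_mul]; exact mul_mem a b
  | inv x _ a => rw [← conj_inv]; exact inv_mem a

/-- conjugacy under `NN` -/
def Rl (H : Subgroup Γ) (q : ℕ) (x y : W) : Prop := ∃ n ∈ NN W H q, n • x = y

omit [Finite W] in
theorem Rl.refl (x : W) : Rl H q x x := ⟨1, one_mem _, one_smul _ _⟩
omit [Finite W] in
theorem Rl.symm (h : Rl H q x y) : Rl H q y x :=
  let ⟨n, hn, e⟩ := h; ⟨n⁻¹, inv_mem hn, by rw [← e, inv_smul_smul]⟩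
omit [Finite W] in
theorem Rl.trans (h : Rl H q x y) (h' : Rl H q y z) : Rl H q x z :=
  let ⟨n, hn, e⟩ := h; let ⟨n', hn', e'⟩ := h'; ⟨n' * n, mul_mem hn' hn, by rw [mul_smul, e, e']⟩
omit [Finite W] in
theorem Rl.cj (h : Rl H q x y) (hg : g ∈ normalizer (H : Set Γ)) : Rl H q (g • x) (g • y) :=
  let ⟨n, hn, e⟩ := h; ⟨_, NN_cj hg hn, by rw [mul_smul, inv_smul_smul, mul_smul, e]⟩
omit [Finite W] in
theorem Ln.rl (l : Ln W H q k) (hx : x ∈ Z W k) (hy : y ∈ Z W k) (x0 : x ≠ 0) (y0 : y ≠ 0) : Rl H q x y :=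
  let ⟨n, e⟩ := l.tr x hx y hy x0 y0; ⟨_, pow_mem (subset_closure l) n, e⟩

include two ff

theorem Ln.mv (l : Ln W H q k) (n : d W k x ≠ 0) (hy : y ∈ Z W k) (e : d W k y ≠ d W k x) : Rl H q x (x + y) := by
  obtain ⟨f, hf, e1⟩ := l.onto two ff x
  have c : k • (x - f) = x - f := sub_eq_zero.1 (show d W k _ = 0 by rw [map_sub, e1, sub_self])
  obtain ⟨m, e2⟩ := l.tr f hf (y + f) (add_mem hy hf) (fun h => n (by rw [← e1, h, map_zero])) fun h => e (by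
    rw [← e1, eq_neg_of_add_eq_zero_left h, neg_eq_of_add_eq_zero_left (two f)])
  refine ⟨_, pow_mem (subset_closure l) m, ?_⟩
  have := pow_fix c m
  rw [smul_sub, e2, sub_eq_iff_eq_add] at this
  rw [this]; abel

theorem Ln.inj (l : Ln W H q k) (hx : x ∈ Z W k) (hy : y ∈ Z W k) (e : d W k x = d W k y) : x = y :=
  sub_eq_zero.1 (l.nofix two ff (sub_mem hx hy) (sub_eq_zero.1 (show d W k _ = 0 by rw [map_sub, e, sub_self])))

theorem cross (l₁ : Ln W H q k₁) (l₂ : Ln W H q k₂) (s : ∀ x ∈ Z W k₁, ∀ y ∈ Z W k₂, x ≠ 0 → y ≠ 0 → ¬ Rl H q x y)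
    (hx : x ∈ Z W k₁) (hy : y ∈ Z W k₂) (nx : d W k₂ x ≠ 0) (ny : d W k₁ y ≠ 0) :
    d W k₂ y = d W k₂ x ∨ d W k₁ x = d W k₁ y := by
  by_contra h
  rw [not_or] at h
  refine s x hx y hy (fun e => nx (by rw [e, map_zero])) (fun e => ny (by rw [e, map_zero]))
    ((l₂.mv two ff nx hy h.1).trans ?_)
  rw [add_comm]
  exact (l₁.mv two ff ny hx h.2).symm

theorem half (l₁ : Ln W H q k₁) (l₂ : Ln W H q k₂) (s : ∀ x ∈ Z W k₁, ∀ y ∈ Z W k₂, x ≠ 0 → y ≠ 0 → ¬ Rl H q x y)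
    (hx : x ∈ Z W k₁) (hy : y ∈ Z W k₂) (nx : d W k₂ x ≠ 0) (ny : d W k₁ y ≠ 0) (hz : z ∈ Z W k₁) (e : d W k₂ z = 0) :
    z = 0 := by
  have y0 : y ≠ 0 := fun e => ny (by rw [e, map_zero])
  obtain ⟨y', hy', n1, n2⟩ : ∃ y' ∈ Z W k₂, y' ≠ y ∧ d W k₁ y' ≠ 0 := by
    by_cases h : d W k₁ (k₂ • y) = 0
    · exact ⟨y + k₂ • y, add_mem hy (Z_smul hy), by simpa using ne0 k₂ y0, by rwa [map_add, h, add_zero]⟩
    · exact ⟨_, Z_smul hy, fun e => y0 (l₂.nofix two ff hy e), h⟩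
  obtain ⟨u, hu, n3, n4⟩ : ∃ u ∈ Z W k₂, d W k₁ u ≠ 0 ∧ d W k₂ u ≠ d W k₂ x := by
    by_cases h : d W k₂ y = d W k₂ x
    · exact ⟨y', hy', n2, fun e => n1 (l₂.inj two ff hy' hy (e.trans h.symm))⟩
    · exact ⟨y, hy, ny, h⟩
  have a := (cross two ff l₁ l₂ s hx hu nx n3).resolve_left n4
  have e' : d W k₂ (x + z) = d W k₂ x := by rw [map_add, e, add_zero]
  have b := (cross two ff l₁ l₂ s (add_mem hx hz) hu (e' ▸ nx) n3).resolve_left (e' ▸ n4)
  simpa using l₁.inj two ff (add_mem hx hz) hx (b.trans a.symm)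

theorem both (l₁ : Ln W H q k₁) (l₂ : Ln W H q k₂) (s : ∀ x ∈ Z W k₁, ∀ y ∈ Z W k₂, x ≠ 0 → y ≠ 0 → ¬ Rl H q x y)
    (hx : x ∈ Z W k₁) (hy : y ∈ Z W k₂) (nx : d W k₂ x ≠ 0) (ny : d W k₁ y ≠ 0) : False := by
  have i : ∀ z ∈ Z W k₂, d W k₁ z = 0 → z = 0 := fun z hz =>
    half two ff l₂ l₁ (fun a ha b hb a0 b0 r => s b hb a ha b0 a0 r.symm) hy hx ny nx hz
  obtain ⟨f, hf, e⟩ := l₂.onto two ff x
  have f0 : f ≠ 0 := fun h => nx (by rw [← e, h, map_zero])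
  have n1 : k₂ • f ≠ f := fun h => f0 (l₂.nofix two ff hf h)
  have n2 : k₂ • f ≠ 0 := ne0 _ f0
  have key : ∀ u ∈ Z W k₂, u ≠ 0 → u ≠ f → d W k₁ x = d W k₁ u := fun u hu u0 uf =>
    (cross two ff l₁ l₂ s hx hu nx fun h => u0 (i u hu h)).resolve_left fun h => uf (l₂.inj two ff hu hf (h.trans e.symm))
  have a := key _ (Z_smul hf) n2 n1
  have b := key _ (add_mem (Z_smul hf) hf) (fun h => n1 (by
    rw [eq_neg_of_add_eq_zero_left h, neg_eq_of_add_eq_zero_left (two f)])) (by simpa using n2)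
  rw [a, map_add, left_eq_add] at b
  exact f0 (i f hf b)

theorem claim (l₁ : Ln W H q k₁) (l₂ : Ln W H q k₂) (hx : x ∈ Z W k₁) (hy : y ∈ Z W k₂) (x0 : x ≠ 0) (y0 : y ≠ 0)
    (r : ¬ Rl H q x y) : k₂ • x = x := by
  have s : ∀ x ∈ Z W k₁, ∀ y ∈ Z W k₂, x ≠ 0 → y ≠ 0 → ¬ Rl H q x y := fun a ha b hb a0 b0 h =>
    r (((l₁.rl hx ha x0 a0).trans h).trans (l₂.rl hb hy b0 y0))
  by_contra n
  have nx : d W k₂ x ≠ 0 := sub_ne_zero.2 n
  have h1 : ∀ z ∈ Z W k₂, k₁ • z = z := fun z hz => by_contra fun h => both two ff l₁ l₂ s hx hz nx (sub_ne_zero.2 h)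
  obtain ⟨w, rfl⟩ := hx
  refine off two ff l₂.mem l₂.tr h1 (l₁.card.trans l₂.card.symm).le (e₀ := k₁ * k₂ * k₁⁻¹ * k₂⁻¹)
    (mul_mem (mul_mem (mul_mem l₁.mem l₂.mem) (inv_mem l₁.mem)) (inv_mem l₂.mem)) (fun u => ?_) (fun u e => ?_)
    (w₀ := k₂ • k₁ • w) fun e => ?_
  · have a := h1 _ (d_mem k₂ (k₁⁻¹ • k₂⁻¹ • u))
    rw [smul_sub, smul_inv_smul, sub_eq_iff_eq_add] at a
    rw [mul_smul, mul_smul, mul_smul, a, add_sub_assoc]
    exact add_mem (d_mem _ _) (inv_d _ _)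
  · have a := h1 _ (inv_d k₂ u)
    rw [smul_sub, e, sub_left_inj, ← eq_inv_smul_iff] at a
    rw [mul_smul, mul_smul, mul_smul, ← a, smul_inv_smul, e]
  · rw [mul_smul, mul_smul, mul_smul, inv_smul_smul, inv_smul_smul] at e
    refine s _ (sub_mem ⟨k₂ • w, ?_⟩ ⟨w, rfl⟩) _ ⟨d W k₁ w, rfl⟩ nx nx (.refl _)
    rw [d_ap, d_ap, smul_sub, e]

omit two ff in
/-- the points of the lines -/
def Om (H : Subgroup Γ) (q : ℕ) (z : W) : Prop := z ≠ 0 ∧ ∃ k, Ln W H q k ∧ z ∈ Z W k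

omit two ff [Finite W] in
theorem Om.cj (h : Om H q z) (hg : g ∈ normalizer (H : Set Γ)) : Om H q (g • z) :=
  let ⟨n, _, l, m⟩ := h; ⟨ne0 _ n, _, l.cj hg, Z_cj g m⟩

theorem loc {n : Γ} (hn : n ∈ NN W H q) : ∀ z : W, Om H q z →
    ∃ n' ∈ NN W H q, n' • z = n • z ∧ ∀ y : W, Om H q y → ¬ Rl H q y z → n' • y = y := by
  induction hn using closure_induction with
  | mem k l =>
    rintro z ⟨z0, k', l', hz⟩
    obtain ⟨x, hx, x0⟩ := l.ne
    by_cases r : Rl H q z x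
    · exact ⟨k, subset_closure l, rfl, fun y ⟨y0, _, l'', hy⟩ h => claim two ff l'' l hy hx y0 x0 fun h' => h (h'.trans r.symm)⟩
    · exact ⟨1, one_mem _, by rw [one_smul, claim two ff l' l hz hx z0 x0 r], fun y _ _ => one_smul _ _⟩
  | one => exact fun z _ => ⟨1, one_mem _, rfl, fun y _ _ => one_smul _ _⟩
  | mul a b ha hb iha ihb =>
    intro z o
    obtain ⟨n1, h1, e1, f1⟩ := ihb z o
    obtain ⟨n2, h2, e2, f2⟩ := iha _ (o.cj (le_normalizer (NN_le hb)))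
    exact ⟨n2 * n1, mul_mem h2 h1, by rw [mul_smul, e1, e2, mul_smul], fun y oy r => by
      rw [mul_smul, f1 y oy r, f2 y oy fun h => r (h.trans (Rl.symm ⟨b, hb, rfl⟩))]⟩
  | inv a ha ih =>
    intro z o
    obtain ⟨n1, h1, e1, f1⟩ := ih _ (o.cj (le_normalizer (NN_le (inv_mem ha))))
    rw [smul_inv_smul] at e1
    exact ⟨n1⁻¹, inv_mem h1, by rw [inv_smul_eq_iff, e1], fun y oy r => by
      rw [inv_smul_eq_iff, f1 y oy fun h => r (h.trans ⟨a, ha, smul_inv_smul _ _⟩)]⟩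

theorem simul {ι : Type*} (u v : ι → W) (o : ∀ i, Om H q (v i)) (r : ∀ i, Rl H q (u i) (v i))
    (s : ∀ i j, Rl H q (v i) (v j) → i = j) (S : Finset ι) : ∃ n ∈ NN W H q, ∀ i ∈ S, n • u i = v i := by
  classical
  induction S using Finset.induction_on with
  | empty => exact ⟨1, one_mem _, by simp⟩
  | insert i S hi ih =>
    obtain ⟨n, hn, e⟩ := ih
    obtain ⟨m, hm, e'⟩ := (r i).symm.trans ⟨n, hn, rfl⟩
    obtain ⟨m', hm', e1, e2⟩ := loc two ff hm _ (o i)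
    refine ⟨m'⁻¹ * n, mul_mem (inv_mem hm') hn, fun j hj => ?_⟩
    rw [mul_smul, inv_smul_eq_iff]
    rcases Finset.mem_insert.1 hj with rfl | hj
    · rw [e1, e']
    · rw [e j hj, e2 _ (o j) fun h => hi (s _ _ h ▸ hj)]

theorem core (l : Ln W H q k) : ∃ z : W, z ≠ 0 ∧ ∀ a ∈ normalizer (H : Set Γ), ∃ h ∈ H, h • a • z = z := by
  classical
  let s : Setoid {z : W // Om H q z} := ⟨fun a b => Rl H q a.1 b.1, fun _ => .refl _, Rl.symm, Rl.trans⟩
  let _ := Fintype.ofFinite (Quotient s)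
  have sp : ∀ i j : Quotient s, Rl H q i.out.1 j.out.1 → i = j := fun i j h => Quotient.out_equiv_out.1 h
  refine ⟨∑ c : Quotient s, c.out.1, fun e => ?_, fun a ha => ?_⟩
  · obtain ⟨x, hx, x0⟩ := l.ne
    obtain ⟨c0⟩ : Nonempty (Quotient s) := ⟨Quotient.mk s ⟨x, x0, k, l, hx⟩⟩
    obtain ⟨y0, k', l', hy⟩ := c0.out.2
    have := congrArg (d W k') e
    rw [map_sum, map_zero, Finset.sum_eq_single c0 (fun c _ n => ?_) (by simp)] at this
    · exact y0 (l'.nofix two ff hy (sub_eq_zero.1 this))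
    · obtain ⟨z0, _, l'', hz⟩ := c.out.2
      exact sub_eq_zero.2 (claim two ff l'' l' hz hy z0 y0 fun h => n (sp _ _ h))
  · let σ : Quotient s → Quotient s := fun c => Quotient.mk s ⟨a • c.out.1, c.out.2.cj ha⟩
    have r : ∀ c, Rl H q (a • c.out.1) (σ c).out.1 := fun c => Rl.symm (Quotient.mk_out (s := s) _)
    have i : Function.Injective σ := fun c c' e => sp _ _ (by
      have := ((r c).trans (e ▸ (r c').symm)).cj (inv_mem ha)
      rwa [inv_smul_smul, inv_smul_smul] at this)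
    obtain ⟨n, hn, e⟩ := simul two ff _ _ (fun c => (σ c).out.2) r (fun c c' h => i (sp _ _ h)) Finset.univ
    refine ⟨n, NN_le hn, ?_⟩
    rw [Finset.smul_sum, Finset.smul_sum, Finset.sum_congr rfl e]
    exact (Finite.injective_iff_bijective.1 i).sum_comp fun c => c.out.1

end Abs

open scoped IsMulCommutative

variable {X : Type*} [Group X]

/-- conjugation -/
@[reducible] def act (V : Subgroup X) [IsMulCommutative V] : DistribMulAction (𝐍 V) (Additive V) where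
  smul g w := Additive.ofMul ⟨g * w.toMul * g⁻¹, (mem_normalizer_iff.1 g.2 _).1 w.toMul.2⟩
  one_smul w := Subtype.ext (show (1 : X) * w.toMul * 1⁻¹ = w.toMul by group)
  mul_smul g h w := Subtype.ext (show (g * h : X) * w.toMul * (g * h : X)⁻¹ = g * (h * w.toMul * (h : X)⁻¹) * (g : X)⁻¹ by group)
  smul_zero g := Subtype.ext (show (g : X) * 1 * (g : X)⁻¹ = 1 by group)
  smul_add g a b := Subtype.ext (show (g : X) * (a.toMul * b.toMul) * (g : X)⁻¹ =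
    g * a.toMul * (g : X)⁻¹ * (g * b.toMul * (g : X)⁻¹) by group)

attribute [local instance] act

variable {V : Subgroup X} [IsMulCommutative V]

theorem smul_val (g : 𝐍 V) (w : Additive V) : ((g • w).toMul : X) = g * w.toMul * (g : X)⁻¹ := rfl

theorem fix_iff {g : 𝐍 V} {w : Additive V} : g • w = w ↔ (g : X) * w.toMul = w.toMul * g := by
  rw [← mul_inv_eq_iff_eq_mul, ← smul_val]
  exact ⟨fun e => by rw [e], fun e => Subtype.ext e⟩

theorem ke_iff {g : 𝐍 V} : g ∈ Ke (𝐍 V) (Additive V) ↔ (g : X) ∈ 𝐂 V :=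
  ⟨fun h v hv => (fix_iff.1 (h (Additive.ofMul ⟨v, hv⟩))).symm, fun h w => fix_iff.2 (h _ w.toMul.2).symm⟩

theorem d_val (g : 𝐍 V) (w : Additive V) : ((g • w - w).toMul : X) = ⁅(g : X), (w.toMul : X)⁆ :=
  div_eq_mul_inv ((g : X) * w.toMul * (g : X)⁻¹) (w.toMul : X)

theorem Z_iff [Finite X] {k : 𝐍 V} {w : Additive V} : w ∈ Z (Additive V) k ↔ (w.toMul : X) ∈ ⁅V, zpowers (k : X)⁆ := by
  constructor
  · rintro ⟨u, rfl⟩
    have := inv_mem (commutator_mem_commutator u.toMul.2 (mem_zpowers (k : X)))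
    rwa [commutatorElement_inv, ← d_val] at this
  · intro h
    have : ⁅zpowers (k : X), V⁆ ≤ ((Z (Additive V) k).toSubgroup').map V.subtype := by
      rw [commutator_le]
      intro y hy v hv
      obtain ⟨n, rfl⟩ := mem_powers_iff_mem_zpowers.2 (inv_mem hy) |>.imp fun n (e : (k : X) ^ n = y⁻¹) => inv_eq_iff_eq_inv.2 e
      let u : Additive V := Additive.ofMul ⟨v, hv⟩
      exact ⟨((k ^ n)⁻¹ • u - u).toMul, pow_d k n u, d_val (k ^ n)⁻¹ u⟩
    rw [commutator_comm] at h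
    obtain ⟨u, hu, e⟩ := this h
    have : u = w.toMul := Subtype.ext e
    subst this
    exact hu

theorem ffa [Finite X] {M : Subgroup X}
    (ff : ∀ E ≤ M, (∀ e ∈ E, e * e ∈ 𝐂 V) → ¬ E ≤ 𝐂 V → (𝐂 V).relIndex E < (𝐂 E).relIndex V) :
    FF (Additive V) (M.subgroupOf (𝐍 V)) := fun E hE h1 h2 => by
  have := ff (E.map (𝐍 V).subtype) (by rintro _ ⟨x, hx, rfl⟩; exact hE hx)
    (by rintro _ ⟨x, hx, rfl⟩; exact ke_iff.1 (h1 x hx)) fun h => h2 fun x hx => ke_iff.2 (h ⟨x, hx, rfl⟩)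
  rw [← relIndex_comap] at this
  have e1 : Ke (𝐍 V) (Additive V) = (𝐂 V).comap (𝐍 V).subtype := by ext g; exact ke_iff
  have e2 : Fx (Additive V) E = ((𝐂 (E.map (𝐍 V).subtype)).subgroupOf V).toAddSubgroup := by
    ext w
    exact ⟨fun h => by rintro _ ⟨x, hx, rfl⟩; exact fix_iff.1 (h x hx), fun h x hx => fix_iff.2 (h _ ⟨x, hx, rfl⟩)⟩
  rw [e1, e2, index_toAddSubgroup]
  exact this

theorem main [Finite X] {A G M : Subgroup X} (ni : NoInv A G) (hM : M ≤ G) (hA : A ≤ 𝐍 M) (hs : Group.IsSolvable M)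
    (hV : V ≤ M) (hn : M ≤ 𝐍 V) (hA' : A ≤ 𝐍 V) (el : ∀ v ∈ V, v ^ 2 = 1)
    (ff : ∀ E ≤ M, (∀ e ∈ E, e * e ∈ 𝐂 V) → ¬ E ≤ 𝐂 V → (𝐂 V).relIndex E < (𝐂 E).relIndex V) {k : X} (hk : k ∈ M)
    (e : ∀ u ∈ ⁅V, zpowers k⁆, ∀ u' ∈ ⁅V, zpowers k⁆, u ≠ 1 → u' ≠ 1 → ∃ n : ℕ, k ^ n * u * (k ^ n)⁻¹ = u') :
    ⁅V, zpowers k⁆ = ⊥ := by
  by_contra ne
  have two : ∀ w : Additive V, w + w = 0 := fun w => Subtype.ext ((pow_two _).symm.trans (el _ w.toMul.2))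
  have n0 : ∀ w : Additive V, w ≠ 0 → (w.toMul : X) ≠ 1 := fun w n e => n (Subtype.ext e)
  have t : Tr (Additive V) (⟨k, hn hk⟩ : 𝐍 V) := fun u hu u' hu' a b => by
    have h1 := Z_iff.1 hu
    have h2 := Z_iff.1 hu'
    obtain ⟨n, h⟩ := e (u.toMul : X) h1 (u'.toMul : X) h2 (n0 u a) (n0 u' b)
    refine ⟨n, Additive.toMul.injective (Subtype.ext ?_)⟩
    rw [smul_val, coe_pow]
    exact h
  have nz : ∃ z ∈ Z (Additive V) (⟨k, hn hk⟩ : 𝐍 V), z ≠ 0 := by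
    obtain ⟨⟨u, hu⟩, u1⟩ := ne_bot_iff_exists_ne_one.1 ne
    have m : u ∈ V := (le_normalizer_iff_commutator_le_left ..).1 (zpowers_le.2 (hn hk)) hu
    exact ⟨Additive.ofMul ⟨u, m⟩, Z_iff.2 hu, fun h => u1 (Subtype.ext (congrArg (fun w : Additive V => (w.toMul : X)) h))⟩
  obtain ⟨z, z0, h⟩ := core two (ffa ff) ⟨(show (⟨k, hn hk⟩ : 𝐍 V) ∈ M.subgroupOf (𝐍 V) from hk), t, rfl, nz⟩
  refine n0 z z0 (mem_bot.1 (ni M hM hA hs ⊥ bot_le le_normalizer_of_normal le_normalizer_of_normal _ (hV z.toMul.2)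
    (mem_bot.2 ((pow_two _).symm.trans (el _ z.toMul.2))) fun a ha => ?_))
  obtain ⟨g, hg, e'⟩ := h ⟨a, hA' ha⟩ ((subgroupOf_normalizer_eq hn).le (hA ha))
  refine ⟨g, hg, mem_bot.2 (mul_inv_eq_one.2 ?_)⟩
  rw [← mul_smul] at e'
  have := smul_val (g * ⟨a, hA' ha⟩) z
  rw [e'] at this
  exact this.symm

end Tor

/-- Module lemma T: if `V` is not an FF-module for `M`, no element of `M` is transitive on `[V, k]# ≠ ∅`. -/
theorem tor {X : Type*} [Group X] [Finite X] {A G M V : Subgroup X} (ni : NoInv A G) (hM : M ≤ G) (hA : A ≤ 𝐍 M)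
    (hs : Group.IsSolvable M) (hV : V ≤ M) (hn : M ≤ 𝐍 V) (hA' : A ≤ 𝐍 V) (el : IsElementaryAbelian 2 V)
    (ff : ∀ E ≤ M, (∀ e ∈ E, e * e ∈ 𝐂 V) → ¬ E ≤ 𝐂 V → (𝐂 V).relIndex E < (𝐂 E).relIndex V) {k : X} (hk : k ∈ M)
    (e : ∀ u ∈ ⁅V, zpowers k⁆, ∀ u' ∈ ⁅V, zpowers k⁆, u ≠ 1 → u' ≠ 1 → ∃ n : ℕ, k ^ n * u * (k ^ n)⁻¹ = u') :
    ⁅V, zpowers k⁆ = ⊥ :=
  have := el.1
  Tor.main ni hM hA hs hV hn hA' el.2 ff hk e

end CL.FZ
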