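import Cfsg.Agent.FGS.FZ.MB
import Cfsg.Agent.FGS.FZ.MR
import Cfsg.Agent.FGS.FZ.Tor
import Cfsg.Agent.TECH.FStarPP

/-!
# Theorem Z, module lemma: there are no 2F-offenders
-/

set_option autoImplicit false
set_option linter.unusedSectionVars false
open Cfsg Subgroup CL.Th CL.MSS CL.B2
open CL.B2.PUq (br pre mem_br br_mono br_norm)
open scoped commutatorElement IsMulCommutative

namespace CL.FZ

namespace MG
open Mo

/-- An automorphism of odd order with `|[W, x]| ≤ 4` is transitive on `[W, x]#`. -/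
theorem trans {W : Type*} [CommGroup W] [Finite W] (two : ∀ w : W, w * w = 1) {x : MulAut W} (ho : Odd (orderOf x))
    (h : Nat.card (cm x) ≤ 4) {u u' : W} (hu : u ∈ cm x) (hu' : u' ∈ cm x) (u1 : u ≠ 1) (u1' : u' ≠ 1) :
    ∃ n : ℕ, (x ^ n) u = u' := by
  classical
  let _ := Fintype.ofFinite (cm x : Set W)
  by_contra! e
  have nf : ∀ w ∈ cm x, w ≠ 1 → x w ≠ w := fun w hw w1 e => w1 (mem_bot.1 (fx_inf_cm two ho ▸ ⟨e, hw⟩))
  have i : Iv x (cm x) := iv_cm' (.inl (by group))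
  have e0 : u ≠ u' := by simpa using e 0
  have e1 : x u ≠ u' := by simpa using e 1
  have e2 : x (x u) ≠ u' := by simpa [sq] using e 2
  have a1 : x u ≠ 1 := by simpa using u1
  have a2 : x (x u) ≠ 1 := by simpa using u1
  have a3 := nf u hu u1
  have a4 := nf _ (i u hu) a1
  have a5 : x (x u) ≠ u := fun e => a3 (mem_fx.1 (fx_sq ho ▸ (e : u ∈ fx (x * x))))
  have s : ({1, u, x u, x (x u), u'} : Finset W) ⊆ (cm x : Set W).toFinset := by
    intro w hw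
    simp only [Finset.mem_insert, Finset.mem_singleton] at hw
    rw [Set.mem_toFinset]
    rcases hw with rfl | rfl | rfl | rfl | rfl
    exacts [one_mem _, hu, i u hu, i _ (i u hu), hu']
  have c := Finset.card_le_card s
  rw [Set.toFinset_card, ← Nat.card_eq_fintype_card, Finset.card_insert_of_notMem (by simp [u1.symm, a1.symm, a2.symm, u1'.symm]),
    Finset.card_insert_of_notMem (by simp [a3.symm, a5.symm, e0]), Finset.card_insert_of_notMem (by simp [a4.symm, e1]),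
    Finset.card_insert_of_notMem (by simp [e2]), Finset.card_singleton] at c
  exact absurd (c.trans h) (by norm_num)

variable {X : Type*} [Group X] [Finite X] {A G M S V B : Subgroup X} [IsMulCommutative V]

/-- the action on `V` -/
abbrev ρ (V : Subgroup X) : (𝐍 V : Subgroup X) →* MulAut V := normalizerMonoidHom V

theorem ρ_val (g : (𝐍 V : Subgroup X)) (v : V) : (ρ V g v : X) = g * v * (g : X)⁻¹ := rfl

theorem ρ_one {g : (𝐍 V : Subgroup X)} : ρ V g = 1 ↔ (g : X) ∈ 𝐂 V :=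
  ⟨fun h v hv => (mul_inv_eq_iff_eq_mul.1 ((ρ_val g ⟨v, hv⟩).symm.trans (by rw [h]; rfl))).symm,
    fun h => MulEquiv.ext fun v => Subtype.ext ((ρ_val g v).trans (mul_inv_eq_iff_eq_mul.2 (h v v.2).symm))⟩

theorem cm_iff {k : (𝐍 V : Subgroup X)} : ⁅V, zpowers (k : X)⁆ = (cm (ρ V k)).map V.subtype := by
  refine le_antisymm ?_ ?_
  · rw [commutator_comm, commutator_le]
    intro y hy v hv
    obtain ⟨n, rfl⟩ := mem_powers_iff_mem_zpowers.2 hy
    exact ⟨ρ V (k ^ n) ⟨v, hv⟩ * (⟨v, hv⟩ : V)⁻¹, cm_pow _ n (by rw [← map_pow]; exact cm_mem _ _), rfl⟩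
  · rintro _ ⟨w, hw, rfl⟩
    obtain ⟨u, rfl⟩ := mem_cm.1 hw
    rw [commutator_comm]
    exact commutator_mem_commutator (mem_zpowers (k : X)) u.2

theorem o2 (MV : M ≤ 𝐍 V) (red : ∀ P ≤ M, M ≤ 𝐍 P → (∀ p ∈ P, ∃ n : ℕ, p ^ 2 ^ n ∈ 𝐂 V) → P ≤ 𝐂 V) :
    O2 (br (ρ V) M) = ⊥ := by
  have h := red (M ⊓ pre (ρ V) (O2 (br (ρ V) M))) inf_le_left (le_normalizer_inf le_normalizer
    (le_normalizer_of_cj_le fun m hm => cj_le_iff_forall.2 (by
      rintro _ ⟨y, hy, rfl⟩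
      exact ⟨⟨m, MV hm⟩ * y * ⟨m, MV hm⟩⁻¹, by
        rw [SetLike.mem_coe, mem_comap, map_mul, map_mul, map_inv]
        exact (mem_normalizer_iff.1 (le_normalizer_pcoreOf _ (mem_br (x := ⟨m, MV hm⟩) hm)) _).1 hy, rfl⟩))) (by
      rintro _ ⟨-, y, hy, rfl⟩
      obtain ⟨n, hn⟩ := pcoreOf_isPGroup (p := 2) (br (ρ V) M) ⟨_, hy⟩
      exact ⟨n, ρ_one.1 (by rw [map_pow]; exact congrArg Subtype.val hn : ρ V (y ^ 2 ^ n) = 1)⟩)
  refine eq_bot_iff.2 fun y hy => ?_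
  obtain ⟨m, hm, rfl⟩ := pcoreOf_le _ hy
  exact ρ_one.2 (h ⟨hm, m, hy, rfl⟩)

theorem hm (ni : NoInv A G) (hM : M ≤ G) (AM : A ≤ 𝐍 M) (hs : Group.IsSolvable M) (VM : V ≤ M) (MV : M ≤ 𝐍 V) (AV : A ≤ 𝐍 V)
    (hV : IsElementaryAbelian 2 V) (o : O2 (br (ρ V) M) = ⊥) {T : Subgroup (MulAut V)} (hT : IsPGroup 2 T)
    (TM : T ≤ br (ρ V) M) : Hm (fittingOf (br (ρ V) M)) T := by
  have two : ∀ w : V, w * w = 1 := fun w => Subtype.ext ((pow_two _).symm.trans (hV.2 _ w.2))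
  have odd : Odd (Nat.card (fittingOf (br (ρ V) M))) := Nat.coprime_two_right.1 (coprime_card_fittingOf o)
  have sv : Group.IsSolvable (br (ρ V) M) := by
    have : Group.IsSolvable (M.subgroupOf (𝐍 V)) := Group.isSolvable_of_surjective (f := (subgroupOfEquivOfLe MV).symm.toMonoidHom)
      (subgroupOfEquivOfLe MV).symm.surjective
    exact Group.isSolvable_of_surjective (MonoidHom.subgroupMap_surjective (ρ V) _)
  refine ⟨two, odd, isNilpotent_fittingOf _, hT, TM.trans (le_normalizer_fittingOf _), ?_, fun x hx h4 => ?_⟩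
  · exact eq_bot_of_le_fittingOf o (hT.to_le inf_le_left)
      (le_trans (le_inf inf_le_right (inf_le_left.trans TM)) (centralizer_fittingOf_inf_le sv))
  · have nn : ∀ {L : Subgroup X}, L ≤ 𝐍 M → L ≤ 𝐍 V → L ≤ 𝐍 (M ⊓ pre (ρ V) (fittingOf (br (ρ V) M)) : Subgroup X) :=
      fun {L} LM LV => le_normalizer_inf LM (le_normalizer_of_cj_le fun m hm => cj_le_iff_forall.2 (by
        rintro _ ⟨y, hy, rfl⟩
        exact ⟨⟨m, LV hm⟩ * y * ⟨m, LV hm⟩⁻¹, by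
          rw [SetLike.mem_coe, mem_comap, map_mul, map_mul, map_inv]
          exact (mem_normalizer_iff.1 (normalizer_le_normalizer_fittingOf _ (br_norm LM MV (mem_br (x := ⟨m, LV hm⟩) hm))) _).1 hy,
          rfl⟩))
    obtain ⟨k, hk, rfl⟩ := fittingOf_le _ hx
    have ho : ∀ y ∈ fittingOf (br (ρ V) M), Odd (orderOf y) := fun y hy =>
      Odd.of_dvd_nat odd (by rw [← Nat.card_zpowers]; exact card_dvd_of_le (zpowers_le.2 hy))
    have := tor (M := M ⊓ pre (ρ V) (fittingOf (br (ρ V) M))) ni (inf_le_left.trans hM) (nn AM AV)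
      (Group.isSolvable_of_isSolvable_injective (inclusion_injective inf_le_left)) (fun v hv => ⟨VM hv, ⟨v, le_normalizer hv⟩, by
        rw [SetLike.mem_coe, mem_comap, ρ_one.2 (le_centralizer V hv)]; exact one_mem _, rfl⟩) (inf_le_left.trans MV) AV hV
      (fun E hE sq hn => (hn fun e he => by
        obtain ⟨-, y, hy, rfl⟩ := hE he
        have h1 : orderOf (ρ V y) ∣ 2 := orderOf_dvd_of_pow_eq_one (by rw [pow_two, ← map_mul]; exact ρ_one.2 (sq _ he))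
        exact ρ_one.1 (orderOf_eq_one_iff.1 (Nat.Coprime.eq_one_of_dvd (Nat.coprime_two_right.2 (ho _ hy)) h1))).elim)
      (k := k) ⟨hk, k, hx, rfl⟩ (by
        rw [cm_iff]
        rintro _ ⟨u, hu, rfl⟩ _ ⟨u', hu', rfl⟩ u1 u1'
        obtain ⟨n, e⟩ := trans two (ho _ hx) h4 hu hu' (fun e => u1 (e ▸ rfl)) fun e => u1' (e ▸ rfl)
        exact ⟨n, by rw [← map_pow] at e; exact congrArg Subtype.val e⟩)
    rw [cm_iff, map_eq_bot_iff_of_injective _ V.subtype_injective] at this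
    exact eq_one_of_cm this

end MG

open MG Mo

theorem strict2F {X : Type*} [Group X] [Finite X] {A G M S V B : Subgroup X} (ni : NoInv A G) (hM : M ≤ G) (AM : A ≤ 𝐍 M)
    (hs : Group.IsSolvable M) (syl : SylIn 2 S M) (AS : A ≤ 𝐍 S) (VM : V ≤ M) (MV : M ≤ 𝐍 V) (AV : A ≤ 𝐍 V)
    (hV : IsElementaryAbelian 2 V) (red : ∀ P ≤ M, M ≤ 𝐍 P → (∀ p ∈ P, ∃ n : ℕ, p ^ 2 ^ n ∈ 𝐂 V) → P ≤ 𝐂 V)
    (hB : B ≤ M) (sq : ∀ b ∈ B, b * b ∈ 𝐂 V) (hn : ¬ B ≤ 𝐂 V) : (𝐂 V).relIndex B ^ 2 < (𝐂 B).relIndex V := by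
  have := hV.1
  have o := o2 MV red
  have s2 : ∀ y ∈ br (ρ V) B, y * y = 1 := by
    rintro _ ⟨b, hb, rfl⟩
    rw [← map_mul]; exact ρ_one.2 (sq _ hb)
  have el : IsElementaryAbelian 2 (br (ρ V) B) := ⟨⟨⟨fun a b => Subtype.ext (by
    have i : ∀ y ∈ br (ρ V) B, y⁻¹ = y := fun y hy => inv_eq_of_mul_eq_one_right (s2 y hy)
    rw [coe_mul, coe_mul, ← i _ (mul_mem a.2 b.2), mul_inv_rev, i _ a.2, i _ b.2])⟩⟩, fun y hy => (pow_two _).trans (s2 y hy)⟩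
  have pB : IsPGroup 2 (br (ρ V) B) := fun y => ⟨1, Subtype.ext ((pow_two _).trans (s2 y y.2))⟩
  have e1 : (𝐂 V).relIndex B = Nat.card (br (ρ V) B) := by
    rw [br, ← relIndex_ker, ← relIndex_subgroupOf (hB.trans MV)]
    congr 1
    ext g; exact ρ_one.symm
  have e2 : (𝐂 B).relIndex V = (fxs (br (ρ V) B)).index := by
    rw [relIndex]
    congr 1
    ext v
    rw [mem_fxs]
    exact ⟨by rintro h _ ⟨b, hb, rfl⟩; exact Subtype.ext (mul_inv_eq_iff_eq_mul.2 (h b hb)), fun h b hb =>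
      mul_inv_eq_iff_eq_mul.1 (congrArg Subtype.val (h _ (mem_br (x := ⟨b, MV (hB hb)⟩) hb)))⟩
  rw [e1, e2]
  by_contra! le
  obtain ⟨t, ht, tt⟩ := (hm ni hM AM hs VM MV AV hV o pB (br_mono hB)).rank le_rfl el (fun e => hn fun b hb =>
    ρ_one.1 (mem_bot.1 (e ▸ mem_br (x := ⟨b, MV (hB hb)⟩) hb))) le
  have sy : SylIn 2 (br (ρ V) S) (br (ρ V) M) := (syl.subgroupOf MV).map _
  obtain ⟨g, -, hg⟩ := sy.exists_conj_le pB (br_mono hB)
  obtain ⟨_, ⟨s, hs', rfl⟩, zz, z1, hz⟩ := (hm ni hM AM hs VM MV AV hV o sy.pgroup sy.le).prod (t := g * t * g⁻¹)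
    ⟨hg ⟨t, ht, rfl⟩, by rw [conj_mul, tt.sq]; simp, by simpa using tt.ne, by rw [card_cm_cj]; exact tt.le⟩
  have SV := syl.le.trans MV
  refine z1 (ρ_one.2 (ni S (syl.le.trans hM) AS (have := syl.pgroup.isNilpotent; inferInstance) (S ⊓ 𝐂 V) inf_le_left
    (le_normalizer_inf le_normalizer (le_normalizer_centralizer SV)) (le_normalizer_inf AS (le_normalizer_centralizer AV)) s hs'
    ⟨mul_mem hs' hs', ρ_one.1 (by rw [map_mul]; exact zz : ρ V (s * s) = 1)⟩ fun a ha => ⟨1, one_mem _, ?_⟩).2)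
  rw [one_mul]
  refine ⟨S.mul_mem ((mem_normalizer_iff.1 (AS ha) _).1 hs') (S.inv_mem hs'), ρ_one.1 (?_ : ρ V (⟨a, AV ha⟩ * s * ⟨a, AV ha⟩⁻¹ * s⁻¹) = 1)⟩
  rw [map_mul, map_mul, map_mul, hz _ (br_norm AS SV (mem_br (x := ⟨a, AV ha⟩) ha))]
  simp

end CL.FZ
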