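import Cfsg.Agent.FGS.FZ.Defs2
import Cfsg.Agent.FGS.FZ.MG
import Cfsg.Agent.TECH.PRed2

/-!
# Theorem Z: the subgroup `V`
-/

set_option autoImplicit false
set_option linter.unusedSectionVars false
open Cfsg Subgroup CL.Th CL.MSS CL.Push CL.BHS CL.B2
open scoped commutatorElement

namespace CL.FZ

variable {X : Type*} [Group X] [Finite X] {A G L R S T U V : Subgroup X}

/-- The normal closure of a 2-reduced subgroup that lies in `O₂(L)`. -/
theorem ncl_red (hX : PRedIn 2 V R) (hT : SylIn 2 T L) (hTR : T ≤ R) (hRL : R ≤ L) (hO : V ≤ O2 L) :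
    PRedIn 2 (nclIn V L) L := by
  have h1 : O2 L ≤ 𝐂 V := hX.red.le_centralizer_of_isPGroup (hT.pcoreOf_le.trans hTR)
    (hRL.trans (oP_normal L)) (oP_isPGroup L)
  have h2 : V ≤ MSS.omegaZ 2 (O2 L) := MSS.elemAb_le_omegaZ hX.elem hO (cent_symm h1)
  refine ⟨nclIn_le_self (hX.le.trans hRL), le_normalizer_nclIn V L,
    MSS.elemAb_of_le (MSS.elemAb_omegaZ _) (nclIn_le h2 ((oP_normal L).trans
      (MSS.normalizer_le_normalizer_omegaZ _))), fun N hNL hn hp => le_centralizer_nclIn ?_ hn⟩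
  have hC : L ≤ 𝐍 (𝐂 (nclIn V L)) := CL.MSS.le_normalizer_centralizer (le_normalizer_nclIn V L)
  have hCX : 𝐂 (nclIn V L) ≤ 𝐂 V := centralizer_le (le_nclIn V L)
  refine (hT.le_sup_of_pow_mem hNL hn hC hp).trans (sup_le ?_ (inf_le_right.trans hCX))
  refine (inf_le_inf_right _ hTR).trans (hX.red _ inf_le_left (CL.MSS.le_normalizer_inf le_normalizer
    (hRL.trans (CL.MSS.le_normalizer_sup hn (CL.MSS.le_normalizer_inf le_normalizer hC))))
      fun g hg => ?_)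
  exact (pow_mem_of_mem_sup (hNL.trans hC) hp g
    (sup_le_sup_left inf_le_right N hg.2)).imp fun _ hk => hCX hk

namespace Mn
variable (h : Mn A G S)
include h

theorem syl_ne : S ≠ ⊥ := fun e => h.nsol (Cfsg.Agent.S0205.result
  (Nat.not_even_iff_odd.1 fun k => not_dvd_card_of_sylIn_bot (e ▸ h.syl) k.two_dvd))

theorem solvN (hU : IsPGroup 2 U) (UG : U ≤ G) (h1 : U ≠ ⊥) (ha : A ≤ 𝐍 U) :
    Group.IsSolvable (G ⊓ 𝐍 U : Subgroup X) := by
  have := h.simple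
  refine h.solv _ inf_le_left
    (CL.MSS.le_normalizer_inf h.nrm (CL.MSS.le_normalizer_of_cj_le fun a hx => by
      rw [cj_normalizer, cj_eq_of_mem_normalizer (ha hx)])) fun e => ?_
  rcases ((normal_subgroupOf_iff_le_normalizer UG).2 (inf_eq_left.1 e)).eq_bot_or_eq_top with f | f
  · exact h1 ((subgroupOf_eq_bot.1 f).eq_bot_of_le UG)
  · have := (hU.to_le (subgroupOf_eq_top.1 f)).isNilpotent
    exact h.nsol inferInstance

theorem exists_vd : ∃ V, Vd A G S V := by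
  obtain ⟨V, hZ, ⟨AV, H, SH, HG, r₀⟩, mx⟩ := Finite.exists_le_maximal
    (p := fun Y : Subgroup X => A ≤ 𝐍 Y ∧ ∃ H, S ≤ H ∧ H ≤ G ∧ PRedIn 2 Y H) (a := MSS.omegaZ 2 S)
    ⟨h.AS.trans (MSS.normalizer_le_normalizer_omegaZ S), S, le_rfl, h.syl.le, pRedIn_omegaZ S⟩
  have pV : IsPGroup 2 V := MSS.elemAb_isPGroup r₀.elem
  have VG : V ≤ G := r₀.le.trans HG
  have SV : S ≤ 𝐍 V := SH.trans r₀.norm
  have VS : V ≤ S := h.syl.le_of_normalized pV VG SV
  have SM : S ≤ G ⊓ 𝐍 V := le_inf h.syl.le SV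
  have sM := h.syl.of_le SM inf_le_left
  have V0 : V ≠ ⊥ := fun e => oz_ne h.syl_ne h.syl.pgroup (le_bot_iff.1 (hZ.trans e.le))
  have r : PRedIn 2 V (G ⊓ 𝐍 V) := by
    have k := ncl_red r₀ sM SH (le_inf HG r₀.norm) (le_oP pV (VS.trans SM) inf_le_right)
    rwa [le_antisymm (nclIn_le le_rfl inf_le_right) (le_nclIn V _)] at k
  have nN : ∀ {U : Subgroup X}, A ≤ 𝐍 U → A ≤ 𝐍 (G ⊓ 𝐍 U : Subgroup X) := fun ha =>
    CL.MSS.le_normalizer_inf h.nrm (CL.MSS.le_normalizer_of_cj_le fun a hx => by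
      rw [cj_normalizer, cj_eq_of_mem_normalizer (ha hx)])
  refine ⟨V, h, r₀.elem, VS, V0, SV, AV, fun E h1 h2 h3 => strict2F h.ni inf_le_left (nN AV)
    (h.solvN pV VG V0 AV) sM h.AS (VS.trans SM) inf_le_right AV r₀.elem r.red h1 h2 h3,
    fun U pU VU UG hn => ?_⟩
  have S0 : S ≤ 𝐍 (S ⊓ 𝐂 V : Subgroup X) :=
    CL.MSS.le_normalizer_inf le_normalizer (CL.MSS.le_normalizer_centralizer SV)
  have AU : A ≤ 𝐍 U := (le_inf AV
    (CL.MSS.le_normalizer_inf h.AS (CL.MSS.le_normalizer_centralizer AV))).trans hn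
  have l : G ⊓ 𝐍 V ⊓ 𝐍 (S ⊓ 𝐂 V : Subgroup X) ≤ G ⊓ 𝐍 U :=
    le_inf (inf_le_left.trans inf_le_left) ((inf_le_inf_right _ inf_le_right).trans hn)
  have SR := le_inf SM S0
  have k := ncl_red (R := G ⊓ 𝐍 V ⊓ 𝐍 (S ⊓ 𝐂 V : Subgroup X)) ⟨VS.trans SR,
    inf_le_left.trans inf_le_right, r₀.elem,
    r.red.of_sup_centralizer_eq r.norm (sM.sup_centralizer_eq r.norm)⟩
    (h.syl.of_le (SR.trans l) inf_le_left) SR l
    (VU.trans (le_oP pU (le_inf UG le_normalizer) inf_le_right))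
  have e := mx ⟨le_normalizer_nclIn_of AV (nN AU), _, SR.trans l, inf_le_left, k⟩ (le_nclIn V _)
  exact le_antisymm e (le_nclIn V _) ▸ k.norm

end Mn

end CL.FZ
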