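import Cfsg.Agent.TECH.QPush4
import Cfsg.Agent.FGS.CO.Defs

/-!
# Theorem Z: descent from a minimal parabolic subgroup to a rank one group over the Baumann subgroup
-/

set_option autoImplicit false
set_option linter.unusedSectionVars false
open Cfsg Subgroup CL.Th CL.MSS CL.ThA CL.Push CL.BHS CL.Foc3 CL.B2 CL.QP
open scoped commutatorElement MatrixGroups

namespace CL.FZ

universe u
variable {G : Type u} [Group G] [Finite G]

/-- A rank one group `P` of characteristic 2 with Sylow subgroup `B`. -/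
structure RA (P B M : Subgroup G) : Prop where
  syl : SylIn 2 B P
  uniq : MSS.UniqMax B P (P ⊓ M)
  chp : CharPIn 2 P
  hom : ∃ (F : Type) (_ : Field F) (_ : Fintype F) (_ : CharP F 2) (φ : P →* SL(2, F)),
    Function.Surjective φ

theorem RA.map {Γ : Type*} [Group Γ] [Finite Γ] {f : G →* Γ} (hf : Function.Injective f)
    {P B : Subgroup G} {M : Subgroup Γ} (h : RA P B (M.comap f)) : RA (P.map f) (B.map f) M := by
  obtain ⟨F, _, _, _, φ, hφ⟩ := h.hom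
  refine ⟨h.syl.map f, ?_, ?_, F, inferInstance, inferInstance, inferInstance,
    φ.comp (P.equivMapOfInjective f hf).symm.toMonoidHom,
    hφ.comp (P.equivMapOfInjective f hf).symm.surjective⟩
  · have k := h.uniq.map f (by rw [(MonoidHom.ker_eq_bot_iff f).2 hf, inf_bot_eq]; exact bot_le)
    have e : (P ⊓ M.comap f).map f = P.map f ⊓ M := le_antisymm
      (le_inf (map_mono inf_le_left) (map_le_iff_le_comap.2 inf_le_right))
      (by rintro _ ⟨⟨x, hx, rfl⟩, h2⟩; exact ⟨x, ⟨hx, h2⟩, rfl⟩)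
    rwa [e] at k
  · rintro _ ⟨⟨x, hx, rfl⟩, h2⟩
    rw [← oP_map_of_injective hf] at h2 ⊢
    exact mem_map_of_mem f (h.chp ⟨hx, fun y hy => hf (by
      rw [map_mul, map_mul]; exact h2 _ (mem_map_of_mem f hy))⟩)

theorem ra_of_rk {F : Type} [Field F] [Fintype F] [CharP F 2] {S M : Subgroup G}
    {φ : G →* SL(2, F)} (h : RK 2 F S M φ) : RA ⊤ S M := by
  refine ⟨h.syl, ⟨le_inf le_top h.le, by rw [top_inf_eq]; exact lt_top_iff_ne_top.2 h.ne_top,
    fun X a b => le_inf le_top (h.uniq X a b.ne)⟩, chP_top_iff.2 h.cent, F, inferInstance,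
    inferInstance, inferInstance,
    φ.comp (⊤ : Subgroup G).subtype, fun y => ?_⟩
  obtain ⟨x, rfl⟩ := h.surj y
  exact ⟨⟨x, mem_top x⟩, rfl⟩

theorem ra_sub {F : Type} [Field F] [Fintype F] [CharP F 2] {H S M : Subgroup G} (hS : S ≤ H)
    {φ : H →* SL(2, F)} (h : RK 2 F (S.subgroupOf H) (M.subgroupOf H) φ) : RA H S M := by
  have k := (ra_of_rk h).map (M := M) H.subtype_injective
  rwa [map_subgroupOf_eq_of_le hS, ← MonoidHom.range_eq_map, range_subtype] at k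

/-- `RK.exists_pu`, keeping the homomorphism. -/
theorem rk_baum {F : Type} [Field F] [Fintype F] [CharP F 2] {S M : Subgroup G}
    {φ : G →* SL(2, F)} (h : RK 2 F S M φ) (hZ : ¬ oz S ≤ center G) (hN : 𝐍 (Bm S) ≤ M) :
    ∃ L : Subgroup G, RA L (Bm S) M := by
  obtain ⟨u, -, -⟩ := h.pu
  obtain ⟨A, hA, hAT⟩ : ∃ A ∈ maxElemAbIn 2 S, ¬ A ≤ pCore 2 G := by
    by_contra! hc
    have e := thompsonSubgroupOf_eq_of_le (thompsonSubgroupOf_le_iff.2 hc) u.T_le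
    have := thompsonSubgroupOf_normal (p := 2) (pCore 2 G)
    have e2 : Bm S = S ⊓ 𝐂 (oz (Jt (pCore 2 G))) := by
      rw [show Jt (pCore 2 G) = Jt S from e]; rfl
    have e3 : Bm S ≤ pCore 2 G := e2 ▸ (inf_centralizer_anti S
      (omegaOne_center_le_omegaOne_centerThompsonOf _)).trans
        (u.inf_centralizer_le (V := oz (pCore 2 G)) (oz_inf u ▸ hZ))
    have e4 : Bm S = pCore 2 G ⊓ 𝐂 (oz (Jt (pCore 2 G))) :=
      le_antisymm (le_inf e3 (e2 ▸ inf_le_right)) (e2 ▸ inf_le_inf_right _ u.T_le)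
    rw [e4] at hN
    exact h.ne_top (eq_top_iff.2 (le_normalizer_of_normal.trans hN))
  obtain ⟨H, a1, -, -, ψ, a4⟩ := h.desc (R := Bm S) inf_le_left (le_antisymm
    (sup_le inf_le_left u.T_le) ((struct_e u hZ hA hAT).2.1.ge.trans (sup_le_sup_right
      ((le_thompsonSubgroupOf hA).trans (Foc3.J_le_baum S)) _))) (baumann_sylow_e u hZ hA hAT) hN
  exact ⟨H, ra_sub a1 a4⟩

/-- `exists_pu`, keeping the homomorphism. -/
theorem pm_ra {T M : Subgroup G} (m : PM 2 T M) : ∃ L : Subgroup G, RA L (Bm T) M := by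
  have hN : 𝐍 (Bm T) ≤ M := fun x hx => m.nj (by
    have k : x ∈ 𝐍 (Jt (Bm T)) := normalizer_le_normalizer_thompsonSubgroupOf _ hx
    rwa [Jt_Bm] at k)
  obtain ⟨P, F, _, _, _, φ, p1, p2, p3, p4, p5⟩ := exists_sl2 m
  obtain ⟨S, hS, hB⟩ := exists_sylIn_ge (m.syl.pgroup.to_le inf_le_left) p5
  have hQ : pCore 2 G ≤ S := hS.le_of_normalized oP_pCore_isPGroup p4 le_normalizer_of_normal
  obtain ⟨g, -, hg⟩ := m.syl.exists_le_conj hS.pgroup le_top
  obtain ⟨j1, j2⟩ := J_eq_of_le_cj ((Foc3.J_le_baum T).trans hB) hg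
  have hgM : g ∈ M := m.nj (mem_normalizer_iff_cj.2 j1)
  have b1 := baum_eq_of_le_cj hB hg
  obtain ⟨H, a1, a2, a3, ψ, a4⟩ := exists_rk φ le_rfl hS
    (by rw [subgroupOf_self, map_top_of_surjective φ p1]) p2
    ((normalizer_le_normalizer_thompsonSubgroupOf S).trans (j2 ▸ m.nj)) p3
    ((chP_top_iff.2 m.chp).of_oP_le le_top (oP_top.le.trans p4))
  have b2 : (Bm (S.subgroupOf H)).map H.subtype = Bm T := by
    rw [Foc3.map_baum H.subtype_injective, map_subgroupOf_eq_of_le a2, b1]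
  obtain ⟨L, c⟩ := rk_baum a4 (fun e => a3 fun x hx => by
    have : x ∈ g •ᶜ 𝐂 (oz T) := by
      rw [cj_centralizer, B2.cj_oz]
      intro z hz
      have k1 := oz_cent _ hz
      have k2 : z ∈ S := hQ (m.chp (centralizer_anti (hQ.trans hg) k1))
      exact congrArg Subtype.val (mem_center_iff.1 (e (mem_oz.2 ⟨k2, fun y hy =>
        Subtype.ext (k1 y (hg hy)), Subtype.ext (mem_oz.1 hz).2.2⟩ :
          (⟨z, a2 k2⟩ : H) ∈ oz (S.subgroupOf H))) ⟨x, hx⟩).symm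
    exact cj_eq_of_mem hgM ▸ cj_mono g m.cz this) (fun x hx => hN (by
      rw [← b2]; exact le_normalizer_map H.subtype (mem_map_of_mem _ hx)))
  exact ⟨_, b2 ▸ c.map H.subtype_injective⟩

theorem J_cent {T V : Subgroup G} (hV : IsElementaryAbelian 2 V) (hVT : V ≤ T) (hn : T ≤ 𝐍 V)
    (h3 : ¬ QuadParamLE T V 2) : Jt T ≤ 𝐂 V := thompsonSubgroupOf_le_iff.2 fun A hA => by
  by_contra e
  obtain ⟨B, b1, b2, b3, b4⟩ := exists_quad hV hVT hn hA e
  have b5 := b1.trans hA.1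
  exact h3 (quad_of hV b5 (b5.trans hn) b2 b3 (le_sq' b4))

theorem le_oz_J {T V : Subgroup G} (hV : IsElementaryAbelian 2 V) (hVT : V ≤ T) (h : Jt T ≤ 𝐂 V) :
    V ≤ oz (Jt T) := le_oz hV (fun x hx =>
  mem_thompsonSubgroupOf_of_centralizes (hVT hx) (hV.2 x hx) (cent_symm h hx)) (cent_symm h)

theorem B_cent {T V : Subgroup G} (hV : IsElementaryAbelian 2 V) (hVT : V ≤ T) (h : Jt T ≤ 𝐂 V) :
    Bm T ≤ 𝐂 V := inf_le_right.trans (centralizer_anti (le_oz_J hV hVT h))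

/-- The proof of the qrc-lemma. -/
theorem descent {T H V : Subgroup G} (hH : CharPIn 2 H) (sT : SylIn 2 T H)
    (u : MSS.UniqMax T H (H ⊓ 𝐍 V)) (hV : IsElementaryAbelian 2 V) (hVT : V ≤ T)
    (nj : H ⊓ 𝐍 (Jt T) ≤ 𝐍 V) (h3 : ¬ QuadParamLE T V 2) (h2 : ¬ CubicParamLE T V 2) :
    ∃ P ≤ H, RA P (Bm T) (𝐍 V) := by
  have hTH := sT.le
  have hn : T ≤ 𝐍 V := u.le.trans inf_le_right
  have hE : 𝐍 V ≤ 𝐍 (𝐂 V) := CL.MSS.le_normalizer_centralizer le_rfl
  obtain ⟨R, eR⟩ : ∃ R, R = T ⊓ 𝐂 V := ⟨_, rfl⟩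
  have hRT : R ≤ T := eR ▸ inf_le_left
  have hRV : R ≤ 𝐂 V := eR ▸ inf_le_right
  have hVR : V ≤ R := eR ▸ le_inf hVT (Th.elemAb_le_centralizer hV)
  have hR : T ≤ 𝐍 R := eR ▸ CL.MSS.le_normalizer_inf le_normalizer (hn.trans hE)
  have jc := J_cent hV hVT hn h3
  have jR : Jt T ≤ R := eR ▸ le_inf (thompsonSubgroupOf_le T) jc
  have bR : Bm T ≤ R := eR ▸ le_inf inf_le_left (B_cent hV hVT jc)
  have bE : ∀ S, R ≤ S → S ≤ T → Bm S = Bm T := fun S a1 a2 =>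
    baum_eq_of_le_cj (g := 1) (bR.trans a1) (by rwa [cj_one])
  have hQT := oP_le_sylIn sT
  obtain ⟨L, S, l1, l2, l3, l4, l5, l6⟩ : ∃ L S, L ≤ H ∧ ¬ L ≤ 𝐍 V ∧
      MSS.UniqMax (R ⊔ O2 H) L (L ⊓ 𝐍 V) ∧ SylIn 2 S L ∧ S ≤ T ∧ R ⊔ O2 H ≤ S := by
    have a0 : R ⊔ O2 H ≤ T := sup_le hRT hQT
    obtain ⟨L, a1, a2, a3⟩ := exists_minOver (M := 𝐍 V) (a0.trans hTH)
      (fun e => u.lt.not_ge (le_inf le_rfl e)) (a0.trans hn)
    obtain ⟨S, a4, a5⟩ := exists_sylIn_ge (sT.pgroup.to_le a0) a3.le_top'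
    obtain ⟨g, hg, a6⟩ := sT.exists_le_conj a4.pgroup (a4.le.trans a1)
    have hgM : g⁻¹ ∈ 𝐍 V := inv_mem (nj ⟨hg, mem_normalizer_iff_cj.2
      (J_eq_of_le_cj (jR.trans (le_sup_left.trans a5)) a6).1⟩)
    rw [le_cj_iff] at a6
    have e : g⁻¹ •ᶜ (R ⊔ O2 H) = R ⊔ O2 H := by
      rw [cj_sup, cj_eq_of_mem_normalizer (oP_normal H (inv_mem hg)), cj_eq_of_le (eR.ge.trans'
        (le_inf ((cj_mono _ (le_sup_left.trans a5)).trans a6)
          (cj_le_of_mem_normalizer hRV (hE hgM))))]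
    have a7 := a3.cj g⁻¹
    rw [e, cj_inf, cj_eq_of_mem hgM] at a7
    exact ⟨_, _, cj_le_of_mem a1 (inv_mem hg), fun k => a2 (by
      rwa [← cj_eq_of_mem hgM, cj_le_cj_iff] at k), a7, a4.cj _, a6, e ▸ cj_mono _ a5⟩
  have hRS := le_sup_left.trans l6
  have hVL := hVR.trans (hRS.trans l4.le)
  have jS : Jt S = Jt T := thompsonSubgroupOf_eq_of_le (jR.trans hRS) l5
  have njL : L ⊓ 𝐍 (Jt T) ≤ 𝐍 V := (inf_le_inf_right _ l1).trans nj
  have m := pMin_of l4 (l3.mono l6 (le_inf l4.le (l5.trans hn))) fun e => l2 ((le_inf le_rfl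
    (e.trans (jS ▸ normalizer_le_normalizer_thompsonSubgroupOf S))).trans njL)
  have ch := chP_iff.2 (ChP.of_oP_le hH l1 (le_sup_right.trans (l6.trans l4.le)))
  have nj' := norm_sub (Y := Jt (S.subgroupOf L)) (by
    rw [map_thompsonSubgroupOf _ L.subtype_injective, map_subgroupOf_eq_of_le l4.le]; exact jS) njL
  by_cases hz : centralizer (vz 2 L : Set L) ≤ (𝐍 V).subgroupOf L
  · obtain ⟨P, r⟩ := pm_ra (pm_of m ch hz nj')
    have k := r.map L.subtype_injective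
    rw [Foc3.map_baum L.subtype_injective, map_subgroupOf_eq_of_le l4.le] at k
    exact ⟨_, (map_subtype_le P).trans l1, bE S hRS l5 ▸ k⟩
  exfalso
  have sub : ∀ {X Y : Subgroup G}, Y ≤ L → X ≤ 𝐍 Y →
      X.subgroupOf L ≤ normalizer (Y.subgroupOf L : Set L) := fun a b => by
    rw [← subgroupOf_normalizer_eq a]; exact comap_mono b
  have hV' := Th.elemAb_subgroupOf hV L
  have nV := sub hVL (l5.trans hn)
  have eS : (S.subgroupOf L).map L.subtype ≤ T := (map_comap_le _ _).trans l5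
  have eV := map_subgroupOf_eq_of_le hVL
  by_cases hVQ : V.subgroupOf L ≤ pCore 2 L
  · exact h3 (eV ▸ quad_map L.subtype_injective eS (quad_case m hV' hVQ nV
      (fun e => l2 (le_normalizer_of_normal_subgroupOf hVL))
      (m.res_le le_normalizer_of_normal hz) nj'))
  have hQL : O2 H ≤ O2 L := oP_le_oP_of_le l1 (le_sup_right.trans (l6.trans l4.le))
  have hOS := oP_le_sylIn l4
  refine h2 (eV ▸ cubic_map L.subtype_injective eS (cubic_case m ch (R := R.subgroupOf L) ?_ hV'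
      (comap_mono hVR) (fun x hx y hy => Subtype.ext (hRV hx y hy)) (comap_mono hRS) nV
      (sub (hRS.trans l4.le) (l5.trans hR)) ?_ hVQ))
  · have := (l3.mono (Y' := R ⊔ O2 L) (sup_le_sup_left hQL R)
      ((sup_le hRS hOS).trans (le_inf l4.le (l5.trans hn)))).subgroupOf
    rwa [subgroupOf_sup (hRS.trans l4.le) (oP_le L), oP_subgroupOf, inf_subgroupOf_left] at this
  · have e : O2 L ⊓ R = O2 L ⊓ 𝐂 V := by
      rw [eR, ← inf_assoc, inf_eq_left.2 (hOS.trans l5)]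
    rw [← oP_subgroupOf, ← inf_subgroupOf_left (𝐍 V) L]
    exact (sub (inf_le_left.trans (oP_le L)) (e ▸ CL.MSS.le_normalizer_inf
      (inf_le_left.trans (oP_normal L)) (inf_le_right.trans hE)) :)

end CL.FZ
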