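import Cfsg.Agent.FGS.FZ.Defs
import Cfsg.Agent.FGS.CO.Bas
import Cfsg.Agent.TECH.PRed

/-!
# Theorem Z: definitions for the proof

`V` is an elementary abelian 2-subgroup of maximal order that is normalized by `S` and `A` and is
2-reduced for its normalizer `M = G ⊓ N(V)`.
-/

set_option autoImplicit false
open Cfsg Subgroup CL.Th CL.MSS CL.Push CL.BHS CL.B2
open CL.B2.PUq (br pre)
open scoped commutatorElement

namespace CL.FZ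

variable {X : Type*} [Group X]

/-- No subgroup of `T` is a `2F`-offender on `V`. -/
def P2 (V T : Subgroup X) : Prop :=
  ∀ E : Subgroup X, E ≤ T → (∀ e ∈ E, e * e ∈ 𝐂 V) → ¬ E ≤ 𝐂 V →
    (𝐂 V).relIndex E ^ 2 < (𝐂 E).relIndex V

/-- A faithful module `V` for the solvable group `H` with `O₂(H) = 1` and the operators `A`. -/
structure Fm (A H V : Subgroup X) : Prop where
  elem : IsElementaryAbelian 2 V
  nV : H ≤ 𝐍 V
  faith : H ⊓ 𝐂 V = ⊥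
  solv : Group.IsSolvable H
  o2 : O2 H = ⊥
  AH : A ≤ 𝐍 H
  AV : A ≤ 𝐍 V
  n1 : ∀ v ∈ V, (∀ a ∈ A, ∃ h ∈ H, h * a * v * (h * a)⁻¹ = v) → v = 1
  n2 : ∀ t ∈ H, t * t = 1 → (∀ a ∈ A, ∃ h ∈ H, h * a * t * (h * a)⁻¹ = t) → t = 1

/-- A simple counterexample. -/
structure Mn (A G S : Subgroup X) : Prop extends Hz A G S where
  normal : G.Normal
  simple : IsSimpleGroup G
  nsol : ¬ Group.IsSolvable G

/-- The subgroup `V`. -/
structure Vd (A G S V : Subgroup X) : Prop extends Mn A G S where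
  elem : IsElementaryAbelian 2 V
  le : V ≤ S
  ne : V ≠ ⊥
  SV : S ≤ 𝐍 V
  AV : A ≤ 𝐍 V
  p2 : P2 V (G ⊓ 𝐍 V)
  nn : ∀ U : Subgroup X, IsPGroup 2 U → V ≤ U → U ≤ G →
    𝐍 V ⊓ 𝐍 (S ⊓ 𝐂 V : Subgroup X) ≤ 𝐍 U → G ⊓ 𝐍 U ≤ 𝐍 V

/-- `Y` is a 2-group between `V` and `M` whose normalizer is not in `M`. -/
structure Bad (G V Y : Subgroup X) : Prop where
  pg : IsPGroup 2 Y
  ge : V ≤ Y
  le : Y ≤ G ⊓ 𝐍 V
  bad : ¬ G ⊓ 𝐍 Y ≤ 𝐍 V

/-- The 2-subgroups of `M` containing and normalizing a bad subgroup. -/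
def Fam (G V R : Subgroup X) : Prop :=
  IsPGroup 2 R ∧ R ≤ G ⊓ 𝐍 V ∧ ∃ Y ≤ R, Bad G V Y ∧ R ≤ 𝐍 Y

/-- A member `R ≤ S` of the family with `(m(R), |J(R)|, |B(R)|, |R|)` lexicographically maximal;
`L = N(V) ⊓ N(C_S(V))` if `R = S`, and `L = N_S(R)` otherwise. -/
structure Mx (G S V R L : Subgroup X) : Prop where
  le : R ≤ S
  wit : ∃ Y ≤ R, Bad G V Y ∧ SylIn 2 R (G ⊓ 𝐍 Y)
  RL : R ≤ L
  LV : L ≤ 𝐍 V
  LB : L ≤ 𝐍 (Bm R)
  good : ∀ U ≤ Bm R, V ≤ U → L ≤ 𝐍 U → G ⊓ 𝐍 U ≤ 𝐍 V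
  m2 : ∀ R', Fam G V R' → Jt R ≤ R' → Jt R' = Jt R
  m3 : ∀ R', Fam G V R' → Bm R ≤ R' → Bm R' = Bm R

/-- A model of `H` modulo a normal subgroup of odd order with a minimal parabolic subgroup `K`, in
which conjugation by the elements of `L` on `B(R)` is induced by the elements of `L'`. -/
structure Md {Γ : Type*} [Group Γ] (H R V L : Subgroup X) (π : H →* Γ) (K L' : Subgroup Γ) :
    Prop where
  odd : Odd (Nat.card π.ker)
  le : K ≤ π.range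
  chp : CharPIn 2 K
  syl : SylIn 2 (br π R) K
  uniq : MSS.UniqMax (br π R) K (K ⊓ 𝐍 (br π V))
  VO : br π V ≤ O2 K
  gen : ∀ l ∈ L', ∃ g ∈ L, ∀ b c : H, (b : X) ∈ Bm R → (c : X) = g * b * g⁻¹ → π c = l * π b * l⁻¹
  onto : ∀ g ∈ L, ∃ l ∈ L', ∀ b c : H, (b : X) ∈ Bm R → (c : X) = g * b * g⁻¹ →
    π c = l * π b * l⁻¹
  BL : br π (Bm R) ≤ L'

end CL.FZ
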