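import Cfsg.Agent.FGS.FZ.Ov

/-!
# Theorem Z: two commuting blocks with a common transvection
-/

set_option autoImplicit false
set_option linter.unusedSectionVars false
open Cfsg Subgroup CL.Th CL.MSS CL.Push CL.BHS CL.B2
open CL.CO (V4 Bq A4 mem_V4 z_V4 v_V4 V4_le)
open scoped commutatorElement

namespace CL.FZ

namespace E8

abbrev W := ZMod 2 × ZMod 2 × ZMod 2

def lin (a b c w : W) : W := w.1 • a + w.2.1 • b + w.2.2 • c

def ev (F : Fin 3 → W → W) : List (Fin 3) → W → W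
  | [], w => w
  | i :: l, w => F i (ev F l w)

def gn (a b c d e : ZMod 2) : Fin 3 → W → W :=
  ![lin (0, 1, 0) (1, 1, 0) (a, b, 1), lin (0, 0, 1) (c, 1, d) (1, 0, 1), lin (1, 0, 0) (1, 1, 0) (e, 0, 1)]

def prs : List (List (Fin 3) × List (Fin 3)) :=
  [([0, 2, 0, 2], [2]), ([0, 2], [1, 2, 1, 1]), ([2], [1, 0, 2, 1, 1]), ([1, 0], [2]), ([0, 1, 1], [2])]

theorem words : ∀ a b c d e : ZMod 2, ∃ q ∈ prs, (∀ w, ev (gn a b c d e) (q.1 ++ q.1) w = w) ∧
    (∀ w, ev (gn a b c d e) (q.2 ++ q.2) w = w) ∧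
    (∀ w, ev (gn a b c d e) ((q.1 ++ q.2 ++ (q.1 ++ q.2)) ++ (q.1 ++ q.2 ++ (q.1 ++ q.2))) w = w) ∧
    ∃ w, ev (gn a b c d e) (q.1 ++ q.2 ++ (q.1 ++ q.2)) w ≠ w := by decide +kernel

variable {X : Type*} [Group X] [Finite X] {z v u g : X}

def ph (z v u : X) (w : W) : X := z ^ w.1.val * v ^ w.2.1.val * u ^ w.2.2.val

theorem pw2 (h : z * z = 1) (a b : ZMod 2) : z ^ (a + b).val = z ^ a.val * z ^ b.val := by
  have : ∀ a b : ZMod 2, (a + b).val = a.val + b.val ∨ a.val + b.val = 2 ∧ (a + b).val = 0 := by decide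
  rcases this a b with e | ⟨e, e'⟩
  · rw [e, pow_add]
  · rw [e', ← pow_add, e, pow_two, h, pow_zero]

structure Hy (z v u : X) : Prop where
  zz : z * z = 1
  vv : v * v = 1
  uu : u * u = 1
  zv : Commute z v
  zu : Commute z u
  vu : Commute v u
  z1 : z ≠ 1
  v1 : v ≠ 1
  vz : v ≠ z
  nu : u ∉ V4 z v

variable (h : Hy z v u)
include h

theorem ph_add (w w' : W) : ph z v u (w + w') = ph z v u w * ph z v u w' := by
  simp only [ph, Prod.fst_add, Prod.snd_add, pw2 h.zz, pw2 h.vv, pw2 h.uu]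
  rw [(h.zv.pow_pow _ _).mul_mul_mul_comm,
    ((h.zu.pow_pow _ _).mul_left (h.vu.pow_pow _ _)).mul_mul_mul_comm]

theorem ph_zero : ph z v u 0 = 1 := by simp [ph]

theorem ph_smul (a : ZMod 2) (w : W) : ph z v u (a • w) = ph z v u w ^ a.val := by
  have : ∀ a : ZMod 2, a = 0 ∨ a = 1 := by decide
  rcases this a with rfl | rfl
  · simp [ph]
  · rw [one_smul, ZMod.val_one, pow_one]

theorem ph_V (a b : ZMod 2) : ph z v u (a, b, 0) ∈ V4 z v := by
  simp only [ph, ZMod.val_zero, pow_zero, mul_one]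
  exact mul_mem (pow_mem z_V4 _) (pow_mem v_V4 _)

theorem ph_one (a b : ZMod 2) : ph z v u (a, b, 1) = ph z v u (a, b, 0) * u := by
  simp only [ph, ZMod.val_zero, pow_zero, mul_one, ZMod.val_one, pow_one]

theorem ex_V (hg : g ∈ V4 z v) : ∃ a b, g = ph z v u (a, b, 0) := by
  rcases (mem_V4 h.zz h.vv h.zv).1 hg with rfl | rfl | rfl | rfl
  exacts [⟨0, 0, by simp [ph]⟩, ⟨1, 0, by simp [ph, ZMod.val_one]⟩, ⟨0, 1, by simp [ph, ZMod.val_one]⟩,
    ⟨1, 1, by simp [ph, ZMod.val_one, h.zv.eq]⟩]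

theorem ph_eq_one {w : W} (e : ph z v u w = 1) : w = 0 := by
  obtain ⟨a, b, c⟩ := w
  have t : ∀ a : ZMod 2, a = 0 ∨ a = 1 := by decide
  rcases t c with rfl | rfl
  · rcases t a with rfl | rfl <;> rcases t b with rfl | rfl
    · rfl
    · exact absurd (by simpa [ph, ZMod.val_one] using e) h.v1
    · exact absurd (by simpa [ph, ZMod.val_one] using e) h.z1
    · refine absurd ?_ h.vz
      have : z * v = 1 := by simpa [ph, ZMod.val_one] using e
      exact mul_left_cancel (this.trans h.zz.symm)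
  · rw [ph_one h] at e
    exact absurd (eq_inv_of_mul_eq_one_right e ▸ inv_mem (ph_V h a b)) h.nu

theorem ph_inj {w w' : W} (e : ph z v u w = ph z v u w') : w = w' := by
  have t : ∀ w : W, w + w = 0 := by decide
  have := ph_add h w w'
  rw [e, ← ph_add h, t, ph_zero h] at this
  exact add_right_cancel ((ph_eq_one h this).trans (t w').symm)

theorem ph_mem (w : W) : ph z v u w ∈ V4 z v ⊔ zpowers u :=
  mul_mem (mem_sup_left (mul_mem (pow_mem z_V4 _) (pow_mem v_V4 _))) (mem_sup_right (pow_mem (mem_zpowers u) _))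

theorem ph_onto (hg : g ∈ V4 z v ⊔ zpowers u) : ∃ w, g = ph z v u w := by
  let f : Multiplicative W →* X := MonoidHom.mk' (fun w => ph z v u w.toAdd) fun a b => ph_add h _ _
  have : V4 z v ⊔ zpowers u ≤ f.range := sup_le (fun g hg => let ⟨a, b, e⟩ := ex_V h hg; ⟨.ofAdd (a, b, 0), e.symm⟩)
    (zpowers_le.2 ⟨.ofAdd (0, 0, 1), by simp [f, ph, ZMod.val_one]⟩)
  obtain ⟨w, e⟩ := this hg
  exact ⟨_, e.symm⟩

theorem act {a b c : W} (ea : g * z * g⁻¹ = ph z v u a) (eb : g * v * g⁻¹ = ph z v u b) (ec : g * u * g⁻¹ = ph z v u c)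
    (w : W) : g * ph z v u w * g⁻¹ = ph z v u (lin a b c w) := by
  rw [lin, ph_add h, ph_add h, ph_smul h, ph_smul h, ph_smul h, ← ea, ← eb, ← ec, conj_pow, conj_pow, conj_pow,
    conj_mul, conj_mul, ph]

omit h in
theorem act_ev {γ : Fin 3 → X} {F : Fin 3 → W → W} (k : ∀ i w, γ i * ph z v u w * (γ i)⁻¹ = ph z v u (F i w))
    (l : List (Fin 3)) (w : W) : (l.map γ).prod * ph z v u w * (l.map γ).prod⁻¹ = ph z v u (ev F l w) := by
  induction l with
  | nil => simp [ev]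
  | cons i l ih => rw [List.map_cons, List.prod_cons, ev, ← k, ← ih]; group

omit h in
theorem d8 {Γ : Type*} [Group Γ] [Finite Γ] {a b : Γ} (aa : a * a = 1) (bb : b * b = 1)
    (h4 : a * b * (a * b) * (a * b * (a * b)) = 1) (h2 : a * b * (a * b) ≠ 1) :
    IsPGroup 2 (zpowers (a * b) ⊔ zpowers a : Subgroup Γ) ∧ 8 ≤ Nat.card (zpowers (a * b) ⊔ zpowers a : Subgroup Γ) := by
  have ai := inv_eq_of_mul_eq_one_right aa
  have bi := inv_eq_of_mul_eq_one_right bb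
  have o : orderOf (a * b) = 2 ^ (1 + 1) := orderOf_eq_prime_pow (by simpa [pow_two] using h2)
    (by simpa [pow_succ, mul_assoc] using h4)
  refine ⟨isPGroup_sup_of_normalizes' (isPGroup_zpowers (k := 2) (by simpa [pow_succ, mul_assoc] using h4))
    (isPGroup_zpowers (k := 1) (by simpa [pow_two] using aa)) (zpowers_le.2 (mem_normalizer_of_cj_le ?_)), ?_⟩
  · rw [cj_zpowers, zpowers_le, ← mul_assoc, aa, one_mul, show b * a⁻¹ = (a * b)⁻¹ by rw [mul_inv_rev, bi]]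
    exact inv_mem (mem_zpowers _)
  · have c : Nat.card (zpowers (a * b)) = 4 := by rw [Nat.card_zpowers, o]; rfl
    have d := card_dvd_of_le (le_sup_left : zpowers (a * b) ≤ zpowers (a * b) ⊔ zpowers a)
    have ne : Nat.card (zpowers (a * b) ⊔ zpowers a : Subgroup Γ) ≠ 4 := fun e => by
      have := eq_of_le_of_card_ge (le_sup_left : zpowers (a * b) ≤ zpowers (a * b) ⊔ zpowers a) (by rw [e, c])
      obtain ⟨n, hn⟩ : a ∈ zpowers (a * b) := this ▸ mem_sup_right (mem_zpowers a)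
      have k : Commute (a * b) a := by nth_rw 2 [← hn]; exact Commute.self_zpow _ _
      exact h2 (by rw [← mul_assoc, k.eq, ← mul_assoc, aa, one_mul, bb])
    have p : 0 < Nat.card (zpowers (a * b) ⊔ zpowers a : Subgroup Γ) := Nat.card_pos
    rw [c] at d
    omega

end E8

open E8

variable {X : Type*} [Group X] [Finite X] {z v u x y p g : X} {N : Subgroup X}

theorem mem_nE (hz : g * z * g⁻¹ ∈ V4 z v ⊔ zpowers u) (hv : g * v * g⁻¹ ∈ V4 z v ⊔ zpowers u)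
    (hu : g * u * g⁻¹ ∈ V4 z v ⊔ zpowers u) : g ∈ 𝐍 (V4 z v ⊔ zpowers u : Subgroup X) := by
  refine mem_normalizer_of_cj_le ?_
  rw [cj_sup, CL.CO.cj_V4, cj_zpowers]
  exact sup_le (V4_le hz hv) (zpowers_le.2 hu)

/-- The automizer of `E = ⟨z, v, u⟩` has order divisible by eight, so a Sylow 2-subgroup of `N(E)` over `N` has an
element that centralizes `v` but not `E`. -/
theorem e8 (k : A4 z v x) (k' : A4 z u y) (vu : v * u = u * v) (hu : u ∉ V4 z v) (xu : x * u * x⁻¹ * u⁻¹ ∈ V4 z v)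
    (yv : y * v * y⁻¹ * v⁻¹ ∈ V4 z u) (pz : p * z = z * p) (pv : p * v * p⁻¹ = v * z)
    (pu : p * u * p⁻¹ = u ∨ p * u * p⁻¹ = u * z) (hN : IsPGroup 2 N) (uN : u ∈ N)
    (nE : N ≤ 𝐍 (V4 z v ⊔ zpowers u : Subgroup X)) (U : Un N z v) : False := by
  classical
  have h : Hy z v u := ⟨k.zz, k.vv, k'.vv, k.zv, k'.zv, vu, k.ne, k.v_ne, k.v_ne_z, hu⟩
  obtain ⟨a, b, e1⟩ := ex_V h xu
  obtain ⟨c, d, e2⟩ : ∃ c d, y * v * y⁻¹ = ph z v u (c, 1, d) := by
    rcases (mem_V4 k'.zz k'.vv k'.zv).1 yv with q | q | q | q <;> rw [mul_inv_eq_iff_eq_mul] at q <;> rw [q]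
    exacts [⟨0, 0, by simp [ph, ZMod.val_one]⟩, ⟨1, 0, by simp [ph, ZMod.val_one]⟩, ⟨0, 1, by simp [ph, ZMod.val_one, vu]⟩,
      ⟨1, 1, by simp only [ph, ZMod.val_one, pow_one]; rw [← h.zu.eq, mul_assoc, mul_assoc, vu]⟩]
  obtain ⟨e, e3⟩ : ∃ e, p * u * p⁻¹ = ph z v u (e, 0, 1) := by
    rcases pu with q | q
    exacts [⟨0, by simp [q, ph, ZMod.val_one]⟩, ⟨1, by simp [q, ph, ZMod.val_one, h.zu.eq]⟩]
  have hk : ∀ i w, ![x, y, p] i * ph z v u w * (![x, y, p] i)⁻¹ = ph z v u (gn a b c d e i w) := fun i => by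
    fin_cases i
    · exact act h (by simp [k.xz, ph, ZMod.val_one]) (by simp [k.xv, ph, ZMod.val_one, h.zv.eq])
        (by rw [ph_one h, ← e1]; simp)
    · exact act h (by simp [k'.xz, ph, ZMod.val_one]) e2 (by simp [k'.xv, ph, ZMod.val_one, h.zu.eq])
    · exact act h (by simp [pz, ph, ZMod.val_one]) (by simp [pv, ph, ZMod.val_one, h.zv.eq]) e3
  generalize hE : V4 z v ⊔ zpowers u = E at nE
  have mE : ∀ w, ph z v u w ∈ E := fun w => hE ▸ ph_mem h w
  have oE : ∀ g ∈ E, ∃ w, g = ph z v u w := fun g hg => ph_onto h (hE ▸ hg)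
  have nk : ∀ l : List (Fin 3), (l.map ![x, y, p]).prod ∈ 𝐍 E := fun l =>
    mem_normalizer_of_cj_le (cj_le_iff_forall.2 fun g hg => by
      obtain ⟨w, rfl⟩ := oE g hg
      rw [act_ev hk]; exact mE _)
  let f : 𝐍 E →* Equiv.Perm E := (MulAut.toPerm E).comp E.normalizerMonoidHom
  have fa : ∀ (g : 𝐍 E) (t : E), (f g t : X) = g * t * (g : X)⁻¹ := fun g t => rfl
  let G : List (Fin 3) → Equiv.Perm E := fun l => f ⟨_, nk l⟩
  have Ga : ∀ l l', G (l ++ l') = G l * G l' := fun l l' => by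
    simp only [G, ← map_mul]; congr 1; ext; simp
  have G1 : ∀ l, G l = 1 ↔ ∀ w, ev (gn a b c d e) l w = w := fun l => ⟨fun q w => ph_inj h (by
      rw [← act_ev hk]; exact (fa ⟨_, nk l⟩ ⟨_, mE w⟩).symm.trans (by rw [show f _ = G l from rfl, q]; rfl)),
    fun q => Equiv.ext fun t => Subtype.ext (by
      obtain ⟨w, e⟩ := oE t t.2
      rw [fa, e, act_ev hk, q]; exact e.symm)⟩
  obtain ⟨⟨l, l'⟩, -, q1, q2, q3, q4⟩ := words a b c d e
  rw [← G1, Ga] at q1 q2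
  rw [← G1, Ga, Ga, Ga] at q3
  have q5 : G l * G l' * (G l * G l') ≠ 1 := fun q => by
    rw [← Ga, ← Ga, G1] at q
    obtain ⟨w, hw⟩ := q4
    exact hw (q w)
  obtain ⟨d1, d2⟩ := d8 q1 q2 q3 q5
  obtain ⟨P, hP, NP⟩ := exists_sylIn_ge hN nE
  have mG : ∀ l, G l ∈ ((𝐍 E).subgroupOf (𝐍 E)).map f := fun l => ⟨_, nk l, rfl⟩
  have c1 := d2.trans (((hP.subgroupOf le_rfl).map f).card_le d1
    (sup_le (zpowers_le.2 (mul_mem (mG l) (mG l'))) (zpowers_le.2 (mG l))))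
  have vE : v ∈ E := hE ▸ mem_sup_left v_V4
  have c2 : Nat.card E ≤ 8 := (Nat.card_le_card_of_surjective (fun w : W => (⟨_, mE w⟩ : E)) fun t =>
    let ⟨w, e⟩ := oE t t.2; ⟨w, Subtype.ext e.symm⟩).trans (by simp [W])
  have key : ∀ s ∈ (P.subgroupOf (𝐍 E)).map f, s ⟨v, vE⟩ = ⟨v, vE⟩ → s = 1 := by
    rintro _ ⟨t, ht, rfl⟩ q
    have tv : t * v = v * t := mul_inv_eq_iff_eq_mul.1 ((fa t ⟨v, vE⟩).symm.trans (congrArg Subtype.val q))
    obtain ⟨tz, tu⟩ := U P hP.pgroup NP t ht tv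
    have cV : ∀ a b, (t : X) * ph z v u (a, b, 0) * (t : X)⁻¹ = ph z v u (a, b, 0) := fun a b => by
      refine mul_inv_eq_of_eq_mul (Commute.eq ?_)
      simp only [ph, ZMod.val_zero, pow_zero, mul_one]
      exact ((show Commute (t : X) z from tz).pow_right _).mul_right ((show Commute (t : X) v from tv).pow_right _)
    obtain ⟨⟨a, b, c⟩, e⟩ := oE _ ((mem_normalizer_iff.1 t.2 u).1 (hE ▸ mem_sup_right (mem_zpowers u)))
    have t2 : ∀ a : ZMod 2, a = 0 ∨ a = 1 := by decide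
    rcases t2 c with rfl | rfl
    · rw [← cV] at e
      exact absurd (CL.CO.cj_can e ▸ ph_V h a b) hu
    have tu' : (t : X) * u * (t : X)⁻¹ = u := mul_inv_eq_one.1 (tu u (NP uN) vu.symm (by
      rw [commutatorElement_def, e, ph_one h, mul_inv_cancel_right]; exact ph_V h a b))
    refine Equiv.ext fun s => Subtype.ext ?_
    obtain ⟨⟨a, b, c⟩, e⟩ := oE s s.2
    rw [fa, Equiv.Perm.one_apply, e]
    rcases t2 c with rfl | rfl
    · exact cV a b
    · rw [ph_one h, ← conj_mul, cV, tu']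
  have := Fintype.ofFinite ((P.subgroupOf (𝐍 E)).map f)
  have := Fintype.ofFinite E
  have c3 := Fintype.card_lt_of_injective_of_notMem (fun s : (P.subgroupOf (𝐍 E)).map f => s.1 ⟨v, vE⟩)
    (fun s s' q => Subtype.ext (inv_mul_eq_one.1 (key _ (mul_mem (inv_mem s.2) s'.2) (by
      rw [Equiv.Perm.mul_apply, ← show s.1 _ = s'.1 _ from q]; simp)))) (b := 1) (by
    rintro ⟨⟨_, t, ht, rfl⟩, q⟩
    exact k.v_ne (by simpa using (fa t ⟨v, vE⟩).symm.trans (congrArg Subtype.val q)))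
  rw [← Nat.card_eq_fintype_card, ← Nat.card_eq_fintype_card] at c3
  omega

end CL.FZ
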