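import Cfsg.Agent.INV.B2.AmalPU
import Cfsg.Agent.TECH.Foc3B

/-!
# Theorem Z: pushing up kills the odd part of the kernel of a rank one subgroup
-/

set_option autoImplicit false
set_option linter.unusedSectionVars false
open Cfsg Subgroup CL.Th CL.MSS CL.Push CL.BHS CL.B2
open CL.B2.PUq
open scoped commutatorElement MatrixGroups

namespace CL.FZ

variable {G : Type*} [Group G] [Finite G] {P B L M : Subgroup G}

namespace LZ2

theorem eq_one {R : Subgroup G} (hR : IsPGroup 2 R) {a : G} (ha : a ∈ R)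
    (ho : (orderOf a).Coprime 2) : a = 1 :=
  mem_bot.1 ((oU_eq_bot_of_isPGroup hR).le (mem_oU ha ho))

theorem ker_lblk {F : Type} [Field F] [Fintype F] [CharP F 2] (b : LBlk 2 F B (oU[2] P))
    (φ : P →* SL(2, F)) (hφ : Function.Surjective φ) (g : P) (hg : φ g = 1)
    (ho : (orderOf (g : G)).Coprime 2) : (g : G) = 1 := by
  let ι := φ.comp (inclusion (oU_le (p := 2) P))
  have r : ι.range = _root_.commutator SL(2, F) := by
    rw [MonoidHom.range_comp, inclusion_range, oU_subgroupOf, ← oU_top, oU_map,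
      map_top_of_surjective _ hφ, oU_top, res_sl2]
  obtain ⟨e⟩ := b.iso
  have c1 := card_eq_card_quotient_mul_card_subgroup (pCore 2 (oU[2] P))
  have c2 := card_eq_card_quotient_mul_card_subgroup ι.ker
  rw [Nat.card_congr e.toEquiv] at c1
  rw [Nat.card_congr (QuotientGroup.quotientKerEquivRange ι).toEquiv, r, c1] at c2
  have c3 := Nat.eq_of_mul_eq_mul_left Nat.card_pos c2
  have pg : IsPGroup 2 (pCore 2 (oU[2] P)) := oP_top (p := 2) (G := oU[2] P) ▸ oP_isPGroup ⊤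
  obtain ⟨k, hk⟩ := pg.exists_card_eq
  have pk : IsPGroup 2 ι.ker := IsPGroup.of_card (c3.symm.trans hk)
  exact congrArg Subtype.val (eq_one pk (a := ⟨g, mem_oU g.2 ho⟩) hg (by
    rwa [← Subgroup.orderOf_coe]))

theorem O2_ker {F : Type} [Field F] [Fintype F] [CharP F 2] (φ : P →* SL(2, F))
    (hφ : Function.Surjective φ) (g : P) (hg : (g : G) ∈ O2 P) : φ g = 1 := by
  have := oP_map_le (p := 2) φ ⊤
  rw [map_top_of_surjective _ hφ, oP_top, oP_top, QdF.pCore_SL2, ← oP_subgroupOf] at this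
  exact this (mem_map_of_mem φ hg)

theorem mem_O2 {N : Subgroup P} [N.Normal] (h : IsPGroup 2 N) {g : P} (hg : g ∈ N) :
    (g : G) ∈ O2 P :=
  (oP_subgroupOf (p := 2) P).ge ((oP_top (p := 2)).le (le_oP h le_top le_normalizer_of_normal hg))

end LZ2
open LZ2

/-- The kernel of `φ` is `O₂(P)`. -/
theorem ker_two (syl : SylIn 2 B P) (u : MSS.UniqMax B P (P ⊓ M)) (cp : CharPIn 2 P) {F : Type}
    [Field F] [Fintype F] [CharP F 2] (φ : P →* SL(2, F)) (hφ : Function.Surjective φ)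
    (BL : B ≤ L) (LB : L ≤ 𝐍 B) (hR : ∀ U ≤ B, P ⊔ L ≤ 𝐍 U → oU[2] P ≤ 𝐂 U) (g : P) :
    φ g = 1 ↔ (g : G) ∈ O2 P := by
  refine ⟨fun hg => ?_, O2_ker φ hφ g⟩
  obtain ⟨R, -, hM⟩ := Finite.exists_le_maximal
    (p := fun R : Subgroup G => R ≤ B ∧ P ⊔ L ≤ 𝐍 R) (a := ⊥) ⟨bot_le, le_normalizer_of_normal⟩
  have hc := hR R hM.1.1 hM.1.2
  have : (R.subgroupOf (P ⊔ L)).Normal := normal_subgroupOf_of_le_normalizer hM.1.2
  let π := QuotientGroup.mk' (R.subgroupOf (P ⊔ L))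
  have hk : π.ker = R.subgroupOf (P ⊔ L) := QuotientGroup.ker_mk' _
  have PN : P ≤ P ⊔ L := le_sup_left
  have pR := syl.pgroup.to_le hM.1.1
  have RP := hM.1.1.trans syl.le
  have RQ : R ≤ O2 P := le_oP pR RP (PN.trans hM.1.2)
  have u' : MSS.UniqMax (br π B) (br π P) (br π P ⊓ br π (P ⊓ M)) := by
    refine ⟨le_inf (br_mono syl.le) (br_mono u.le), inf_lt_left.2 fun e => u.lt.not_ge
      ((le_of_br hk PN e).trans (sup_le le_rfl (hM.1.1.trans u.le))), fun Y h1 h2 =>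
        le_inf h2.le fun y hy => ?_⟩
    obtain ⟨x, -, rfl⟩ := h2.le hy
    exact mem_br ((u.le_or_eq (le_pre (syl.le.trans PN) h1) (pre_le hk RP h2.le)).resolve_right
      (fun e => h2.not_ge (br_le e.ge)) ⟨x, hy, rfl⟩)
  let f : P →* _ := π.comp (inclusion PN)
  have cp' : CharPIn 2 (br π P) := by
    rintro _ ⟨⟨x, hx, rfl⟩, hy⟩
    have n : ((𝐂 (O2 (br π P))).comap f).Normal := ⟨fun a ha g => by
      rw [mem_comap, map_mul, map_mul, map_inv]
      exact conj_mem_of_normalizes (CL.MSS.le_normalizer_centralizer (oP_normal (br π P)))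
        (mem_br (x := inclusion PN g) g.2) ha⟩
    have pg : IsPGroup 2 ((𝐂 (O2 (br π P))).comap f) :=
      isPGroup_of_forall_coprime fun a ha ho => by
        have ho' : (orderOf (a : G)).Coprime 2 := by rwa [Subgroup.orderOf_coe]
        refine Subtype.ext (eq_one (oP_isPGroup P) (cp ⟨a.2, mem_centralizer_of_two_step pR ho'
          (fun q hq => ?_) (hc (mem_oU a.2 ho'))⟩) ho')
        have e := mem_centralizer_iff.1 ha _ (br_O2 PN (mem_br (x := ⟨q, PN (oP_le P hq)⟩) hq))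
        have : ⁅(⟨q, PN (oP_le P hq)⟩ : ↥(P ⊔ L)), inclusion PN a⁆ ∈ π.ker := by
          rw [MonoidHom.mem_ker, map_commutatorElement, commutatorElement_eq_one_iff_mul_comm]
          exact e
        exact hk.le this
    exact br_O2 PN (mem_br (mem_O2 pg (g := ⟨x, hx⟩) hy))
  let ρ : P.subgroupOf (P ⊔ L) →* SL(2, F) := φ.comp (subgroupOfEquivOfLe PN).toMonoidHom
  have sj := π.subgroupMap_surjective (P.subgroupOf (P ⊔ L))
  let φ' : br π P →* SL(2, F) := MonoidHom.liftOfSurjective _ sj ⟨ρ, fun g hg =>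
    O2_ker φ hφ _ (RQ (hk.le (show g.1 ∈ π.ker from congrArg Subtype.val hg)))⟩
  have ev : ∀ a : P, φ' (π.subgroupMap _ ⟨⟨a, PN a.2⟩, a.2⟩) = φ a := fun a =>
    MonoidHom.liftOfRightInverse_comp_apply _ _ _ _ _
  have hφ' : Function.Surjective φ' := fun M => let ⟨a, ha⟩ := hφ M; ⟨_, (ev a).trans ha⟩
  obtain ⟨n, -, hn⟩ := FiniteField.card F 2
  obtain ⟨b, -⟩ := lblk_of_hom ((syl.subgroupOf PN).map π) u' cp' hn φ' hφ' fun U h1 h2 h3 h4 => by
    have k1 : br π L ≤ 𝐍 U := (br_norm LB (syl.le.trans PN)).trans (norm_char h1 h3)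
    have k2 : br π (P ⊔ L) ≤ 𝐍 U := (br_sup PN le_sup_right).le.trans (sup_le h4 k1)
    have := hM.2 ⟨pre_le hk hM.1.1 h1, norm_pre k2⟩ (le_pre (RP.trans PN) ((br_R hk).le.trans bot_le))
    refine h2 (le_bot_iff.1 fun y hy => ?_)
    obtain ⟨x, -, rfl⟩ := h1 hy
    exact hk.ge (this ⟨x, hy, rfl⟩)
  refine mem_O2 (N := φ.ker) (isPGroup_of_forall_coprime fun a ha ho => ?_) hg
  have ho' : (orderOf (a : G)).Coprime 2 := by rwa [Subgroup.orderOf_coe]
  have := ker_lblk b φ' hφ' _ ((ev a).trans ha) (ho.coprime_dvd_left (orderOf_map_dvd f a))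
  exact Subtype.ext (eq_one pR (hk.le (show (⟨a, PN a.2⟩ : ↥(P ⊔ L)) ∈ π.ker from this)) ho')

/-- The maximal subgroup over `B` normalizes `B`. -/
theorem ker_norm (syl : SylIn 2 B P) (u : MSS.UniqMax B P (P ⊓ M)) (cp : CharPIn 2 P) {F : Type}
    [Field F] [Fintype F] [CharP F 2] (φ : P →* SL(2, F)) (hφ : Function.Surjective φ)
    (BL : B ≤ L) (LB : L ≤ 𝐍 B) (hR : ∀ U ≤ B, P ⊔ L ≤ 𝐍 U → oU[2] P ≤ 𝐂 U) :
    P ⊓ M ≤ 𝐍 B := by
  have kB : φ.ker ≤ B.subgroupOf P := fun g hg =>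
    oP_le_sylIn syl ((ker_two syl u cp φ hφ BL LB hR g).1 hg)
  have s := (syl.subgroupOf le_rfl).map φ
  rw [subgroupOf_self, map_top_of_surjective _ hφ] at s
  have n := Foc3.le_norm_of_sylIn s (map_mono (comap_mono u.le)) fun e => u.lt.not_ge fun x hx =>
    (comap_map_eq_self (kB.trans (comap_mono u.le))).le
      (show (⟨x, hx⟩ : P) ∈ (((P ⊓ M).subgroupOf P).map φ).comap φ from e.ge (mem_top _))
  refine CL.MSS.le_normalizer_of_cj_le fun x hx => cj_le_iff_forall.2 fun b hb => ?_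
  refine (comap_map_eq_self kB).le (show ⟨x, hx.1⟩ * ⟨b, syl.le hb⟩ * (⟨x, hx.1⟩ : P)⁻¹ ∈
    ((B.subgroupOf P).map φ).comap φ from ?_)
  rw [mem_comap, map_mul, map_mul, map_inv]
  exact conj_mem_of_normalizes n (mem_map_of_mem φ (show (⟨x, hx.1⟩ : P) ∈ (P ⊓ M).subgroupOf P
    from hx)) (mem_map_of_mem φ (show (⟨b, syl.le hb⟩ : P) ∈ B.subgroupOf P from hb))

end CL.FZ
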