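import Cfsg.Agent.FGS.FZ.LZ1
import Cfsg.Agent.FGS.FZ.LZ2
import Cfsg.Agent.FGS.CO.LL

/-!
# Theorem Z: the local lemma
-/

set_option autoImplicit false
set_option linter.unusedSectionVars false
open Cfsg Subgroup CL.Th CL.MSS CL.Push CL.BHS CL.B2 CL.CO
open scoped commutatorElement

namespace CL.FZ

variable {X : Type*} [Group X]

/-- The local situation in a model: `K` is a minimal parabolic subgroup of characteristic 2 over `R`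
that does not normalize `V`. -/
structure Lz (K R L V : Subgroup X) : Prop where
  chp : CharPIn 2 K
  syl : SylIn 2 R K
  uniq : MSS.UniqMax R K (K ⊓ 𝐍 V)
  elem : IsElementaryAbelian 2 V
  VR : V ≤ R
  RL : R ≤ L
  LB : L ≤ 𝐍 (Bm R)
  h1 : ∀ U ≤ Bm R, V ≤ U → L ≤ 𝐍 U → ¬ K ≤ 𝐍 U
  hN : K ⊓ 𝐍 (Jt R) ≤ 𝐍 V
  nq : ¬ QuadParamLE R V 2
  nc : ¬ CubicParamLE R V 2

variable [Finite X] {K R L P V : Subgroup X} {z v x : X}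

theorem Bm_Bm (R : Subgroup X) : Bm (Bm R) = Bm R :=
  le_antisymm (baum_le _) (le_inf le_rfl (Bm_baum R))

theorem norm_Bm_le (R : Subgroup X) : 𝐍 (Bm R) ≤ 𝐍 (Jt R) := fun g hg => by
  have k : g ∈ 𝐍 (Jt (Bm R)) := normalizer_le_normalizer_thompsonSubgroupOf _ hg
  rwa [Jt_Bm] at k

theorem cf_Bm : Cf (Bm R) z v x ↔ Cf R z v x :=
  ⟨fun c => ⟨c.toA4, Bm_Bm R ▸ c.zB, Bm_Bm R ▸ c.vB, Bm_Bm R ▸ c.bz, Bm_Bm R ▸ c.bv, Bm_Bm R ▸ c.xq,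
    Jt_Bm R ▸ c.jn⟩, fun c => ⟨c.toA4, (Bm_Bm R).symm ▸ c.zB, (Bm_Bm R).symm ▸ c.vB,
    (Bm_Bm R).symm ▸ c.bz, (Bm_Bm R).symm ▸ c.bv, (Bm_Bm R).symm ▸ c.xq, (Jt_Bm R).symm ▸ c.jn⟩⟩

theorem cf_not_norm (c : Cf R z v x) : x ∉ 𝐍 (Bm R) := fun hx => by
  obtain ⟨j, hj, e⟩ := c.jn
  have k := c.bz _ ((mem_normalizer_iff.1 (inv_mem hx) j).1 (J_le_baum R hj))
  have e' : j * v * j⁻¹ = v := by
    rw [← c.xz]
    calc j * (x * z * x⁻¹) * j⁻¹ = x * (x⁻¹ * j * x⁻¹⁻¹ * z) * x⁻¹ * j⁻¹ := by group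
      _ = _ := by rw [k]; group
  exact c.ne (left_eq_mul.1 (e'.symm.trans e))

namespace Lz
variable (h : Lz K R L V)
include h

theorem RV : R ≤ 𝐍 V := h.uniq.le.trans inf_le_right

theorem JV : Jt R ≤ 𝐂 V := J_cent h.elem h.VR h.RV h.nq

theorem VB : V ≤ Bm R := (le_oz_J h.elem h.VR h.JV).trans ((oz_le _).trans (J_le_baum R))

theorem VZ : V ≤ oz (Bm R) := le_oz h.elem h.VB (cent_symm (B_cent h.elem h.VR h.JV))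

theorem sup_eq (hP : P ≤ K) (hn : ¬ P ≤ 𝐍 V) : K ≤ P ⊔ R :=
  (h.uniq.eq_of_not_le le_sup_right (sup_le hP h.syl.le) fun e =>
    hn (le_sup_left.trans (e.trans inf_le_right))).ge

theorem h1' (hP : P ≤ K) (hn : ¬ P ≤ 𝐍 V) :
    ∀ U ≤ Bm R, V ≤ U → L ≤ 𝐍 U → ¬ P ≤ 𝐍 U := fun U h1 h2 h3 h4 =>
  h.h1 U h1 h2 h3 ((h.sup_eq hP hn).trans (sup_le h4 (h.RL.trans h3)))

theorem par : ∃ P ≤ K, CharPIn 2 P ∧ SylIn 2 (Bm R) P ∧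
    MSS.UniqMax (Bm R) P (P ⊓ 𝐍 (Bm R)) ∧ ¬ P ≤ 𝐍 V := by
  obtain ⟨P, hP, r⟩ := descent h.chp h.syl h.uniq h.elem h.VR h.hN h.nq h.nc
  have hn : ¬ P ≤ 𝐍 V := fun e => r.uniq.lt.not_ge (le_inf le_rfl e)
  obtain ⟨F, _, _, _, φ, hφ⟩ := r.hom
  have k := ker_norm r.syl r.uniq r.chp φ hφ ((baum_le R).trans h.RL) h.LB fun U hU hu => by
    have nC : P ≤ 𝐍 (𝐂 U) := CL.MSS.le_normalizer_centralizer (le_sup_left.trans hu)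
    have nC' : P ≤ 𝐍 (P ⊓ 𝐂 U : Subgroup X) := CL.MSS.le_normalizer_inf le_normalizer nC
    refine (r.uniq.presOf_le_of_not_le r.syl.pgroup inf_le_left (r.syl.le.trans nC')
      fun e => ?_).trans inf_le_right
    have e1 : Bm R ⊓ 𝐂 U = O2 P ⊓ 𝐂 U := le_antisymm (le_inf ((le_inf inf_le_left
      (inf_le_inf_right _ r.syl.le)).trans (r.uniq.inf_le_pcoreOf r.syl e nC')) inf_le_right)
      (inf_le_inf_right _ (oP_le_sylIn r.syl))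
    refine h.h1' hP hn (Bm R ⊓ 𝐂 U) inf_le_left
      (le_inf h.VB (h.VZ.trans ((oz_cent _).trans (centralizer_le hU))))
      (CL.MSS.le_normalizer_inf h.LB (CL.MSS.le_normalizer_centralizer (le_sup_right.trans hu))) ?_
    rw [e1]
    exact CL.MSS.le_normalizer_inf (oP_normal P) nC
  have e : P ⊓ 𝐍 V = P ⊓ 𝐍 (Bm R) := le_antisymm (le_inf inf_le_left k)
    (le_inf inf_le_left ((inf_le_inf hP (norm_Bm_le R)).trans h.hN))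
  exact ⟨P, hP, r.chp, r.syl, e ▸ r.uniq, hn⟩

theorem cf (LV : L ≤ 𝐍 V) (tor : ∀ k ∈ K ⊓ 𝐍 V, (∀ u ∈ ⁅V, zpowers k⁆, ∀ u' ∈ ⁅V, zpowers k⁆,
    u ≠ 1 → u' ≠ 1 → ∃ n : ℕ, k ^ n * u * (k ^ n)⁻¹ = u') → ⁅V, zpowers k⁆ = ⊥) :
    ∃ z v, ∃ x ∈ K, Cf R z v x ∧ x ∉ 𝐍 V := by
  obtain ⟨P, hP, cp, s, u, hn⟩ := h.par
  have hN : P ⊓ 𝐍 (Bm (Bm R)) ≤ K ⊓ 𝐍 V := by
    rw [Bm_Bm]
    exact le_inf (inf_le_left.trans hP) ((inf_le_inf hP (norm_Bm_le R)).trans h.hN)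
  obtain ⟨z, v, x, hx, c⟩ := Lc.cf (K := P) (R := Bm R) (L := L) (T := V) ⟨cp, s, u,
    (baum_le R).trans h.RL, h.LB, h.VZ, LV, h.h1' hP hn, hN.trans inf_le_right,
    fun k hk => tor k (hN hk)⟩
  refine ⟨z, v, x, hP hx, cf_Bm.1 c, fun e => cf_not_norm (cf_Bm.1 c) ?_⟩
  exact (u.max (P ⊓ 𝐍 V) (le_inf s.le ((baum_le R).trans h.RV))
    (inf_lt_left.2 hn) ⟨hx, e⟩).2

end Lz

end CL.FZ
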