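import Cfsg.Agent.FGS.FZ.Defs
import Cfsg.Agent.FGS.ThompDih

/-!
# Theorem Z, module lemma: definitions and basic facts

`W` is a finite elementary abelian 2-group, all groups are subgroups of `MulAut W`.
-/

set_option autoImplicit false
set_option linter.unusedSectionVars false
open Cfsg Subgroup CL.MSS CL.B2

namespace CL.FZ.Mo

variable {W : Type*} [CommGroup W]

/-- `C_W(g)` -/
def fx (g : MulAut W) : Subgroup W := g.toMonoidHom.eqLocus (MonoidHom.id W)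

/-- `[W, g]` -/
def cm (g : MulAut W) : Subgroup W := (g.toMonoidHom / MonoidHom.id W).range

/-- `C_W(B)` -/
def fxs (B : Subgroup (MulAut W)) : Subgroup W := ⨅ b ∈ B, fx b

/-- the pointwise stabilizer of `U` -/
def stb (U : Subgroup W) : Subgroup (MulAut W) where
  carrier := {g | ∀ u ∈ U, g u = u}
  one_mem' := fun _ _ => rfl
  mul_mem' := fun ha hb u hu => by rw [MulAut.mul_apply, hb u hu, ha u hu]
  inv_mem' := fun {a} ha u hu => by rw [MulAut.inv_apply, MulEquiv.symm_apply_eq, ha u hu]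

/-- `g` maps `U` into `U` -/
def Iv (g : MulAut W) (U : Subgroup W) : Prop := ∀ u ∈ U, g u ∈ U

/-- The 2-group `S` acts faithfully on the nilpotent group `F` of odd order, and no element of `F` is
small. -/
structure Hm (F S : Subgroup (MulAut W)) : Prop where
  two : ∀ w : W, w * w = 1
  odd : Odd (Nat.card F)
  nil : Group.IsNilpotent F
  pS : IsPGroup 2 S
  nrm : S ≤ 𝐍 F
  fth : S ⊓ 𝐂 F = ⊥
  big : ∀ x ∈ F, Nat.card (cm x) ≤ 4 → x = 1

/-- the small involutions of `S` -/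
structure Tt (S : Subgroup (MulAut W)) (t : MulAut W) : Prop where
  mem : t ∈ S
  sq : t * t = 1
  ne : t ≠ 1
  le : Nat.card (cm t) ≤ 4

variable {g h a t x : MulAut W} {U U' : Subgroup W} {B : Subgroup (MulAut W)} {u w : W}

theorem mem_fx : w ∈ fx g ↔ g w = w := Iff.rfl
theorem mem_cm : w ∈ cm g ↔ ∃ u, g u * u⁻¹ = w := by
  simp [cm, MonoidHom.mem_range, div_eq_mul_inv]
theorem mem_fxs : w ∈ fxs B ↔ ∀ b ∈ B, b w = w := by simp [fxs, mem_iInf, mem_fx]
theorem mem_stb : g ∈ stb U ↔ ∀ u ∈ U, g u = u := Iff.rfl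
theorem cm_mem (g : MulAut W) (u : W) : g u * u⁻¹ ∈ cm g := mem_cm.2 ⟨u, rfl⟩

theorem Iv.inf (h1 : Iv g U) (h2 : Iv g U') : Iv g (U ⊓ U') := fun u hu => ⟨h1 u hu.1, h2 u hu.2⟩
theorem Iv.mul (h1 : Iv g U) (h2 : Iv h U) : Iv (g * h) U := fun u hu => h1 _ (h2 u hu)
theorem Iv.pow (h1 : Iv g U) (n : ℕ) : Iv (g ^ n) U := by
  induction n with
  | zero => exact fun u hu => hu
  | succ n ih => rw [pow_succ]; exact ih.mul h1
theorem Iv.sup (h1 : Iv g U) (h2 : Iv g U') : Iv g (U ⊔ U') := fun u hu => by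
  obtain ⟨y, hy, z, hz, rfl⟩ := mem_sup.1 hu
  rw [map_mul]
  exact mul_mem_sup (h1 y hy) (h2 z hz)
theorem iv_of_cm_le (h1 : cm g ≤ U) : Iv g U := fun u hu => by
  simpa using mul_mem (h1 (cm_mem g u)) hu
theorem iv_of_le_fx (h1 : U ≤ fx g) : Iv g U := fun u hu => by rw [mem_fx.1 (h1 hu)]; exact hu

theorem cm_one : cm (1 : MulAut W) = ⊥ := eq_bot_iff.2 fun w hw => by
  obtain ⟨u, rfl⟩ := mem_cm.1 hw
  simp
theorem eq_one_of_cm (h1 : cm g = ⊥) : g = 1 := MulEquiv.ext fun u => by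
  have := cm_mem g u
  rwa [h1, mem_bot, mul_inv_eq_one] at this
theorem cm_mul (g h : MulAut W) : cm (g * h) ≤ cm g ⊔ cm h := fun w hw => by
  obtain ⟨u, rfl⟩ := mem_cm.1 hw
  have := mul_mem_sup (cm_mem g (h u)) (cm_mem h u)
  simpa [mul_assoc] using this
theorem cm_inv (g : MulAut W) : cm g⁻¹ = cm g := by
  have k : ∀ g : MulAut W, cm g⁻¹ ≤ cm g := fun g w hw => by
    obtain ⟨u, rfl⟩ := mem_cm.1 hw
    have := inv_mem (cm_mem g (g⁻¹ u))
    simpa [mul_comm] using this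
  exact (k g).antisymm (by simpa using k g⁻¹)
theorem cm_pow (g : MulAut W) (n : ℕ) : cm (g ^ n) ≤ cm g := by
  induction n with
  | zero => rw [pow_zero, cm_one]; exact bot_le
  | succ n ih => rw [pow_succ]; exact (cm_mul _ _).trans (sup_le ih le_rfl)
theorem fx_inv (g : MulAut W) : fx g⁻¹ = fx g := by
  ext w
  rw [mem_fx, mem_fx, MulAut.inv_apply, MulEquiv.symm_apply_eq, eq_comm]
theorem fx_pow (g : MulAut W) (n : ℕ) : fx g ≤ fx (g ^ n) := fun w hw => by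
  induction n with
  | zero => rfl
  | succ n ih => rw [mem_fx, pow_succ, MulAut.mul_apply, mem_fx.1 hw, mem_fx.1 ih]
theorem cm_cj (a g : MulAut W) : cm (a * g * a⁻¹) = (cm g).map a.toMonoidHom := by
  ext w
  simp only [mem_cm, mem_map]
  constructor
  · rintro ⟨u, rfl⟩
    exact ⟨_, ⟨a⁻¹ u, rfl⟩, by simp⟩
  · rintro ⟨_, ⟨u, rfl⟩, rfl⟩
    exact ⟨a u, by simp⟩
theorem card_cm_cj (a g : MulAut W) : Nat.card (cm (a * g * a⁻¹)) = Nat.card (cm g) := by
  rw [cm_cj, card_map_of_injective a.injective]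
theorem iv_cm (e : a * g * a⁻¹ = h) (hu : u ∈ cm g) : a u ∈ cm h := by
  rw [← e, cm_cj]; exact ⟨u, hu, rfl⟩
theorem iv_fx (e : a * g * a⁻¹ = h) (hu : u ∈ fx g) : a u ∈ fx h := by
  rw [← e, mem_fx]; simp [mem_fx.1 hu]
/-- `a` centralizes or inverts `g` -/
theorem iv_cm' (e : a * g * a⁻¹ = g ∨ a * g * a⁻¹ = g⁻¹) : Iv a (cm g) := fun _ hu =>
  e.elim (fun e => iv_cm e hu) fun e => cm_inv g ▸ iv_cm e hu
theorem iv_fx' (e : a * g * a⁻¹ = g ∨ a * g * a⁻¹ = g⁻¹) : Iv a (fx g) := fun _ hu =>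
  e.elim (fun e => iv_fx e hu) fun e => fx_inv g ▸ iv_fx e hu
theorem cm_le_fx (two : ∀ w : W, w * w = 1) (tt : t * t = 1) : cm t ≤ fx t := fun w hw => by
  obtain ⟨u, rfl⟩ := mem_cm.1 hw
  have e : t (t u) = u := by rw [← MulAut.mul_apply, tt]; rfl
  rw [mem_fx, map_mul, map_inv, e, inv_eq_of_mul_eq_one_right (two u), inv_eq_of_mul_eq_one_right (two (t u)), mul_comm]

variable [Finite W]

theorem card_cm (g : MulAut W) : Nat.card (cm g) = (fx g).index := by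
  rw [cm, ← index_ker]
  congr 1
  ext w
  simp [mem_fx, MonoidHom.mem_ker, div_eq_one]

/-- the image of `U` under `u ↦ g u * u⁻¹` -/
theorem card_map_cm (g : MulAut W) (U : Subgroup W) :
    Nat.card (U.map (g.toMonoidHom / MonoidHom.id W)) * Nat.card (U ⊓ fx g : Subgroup W) = Nat.card U := by
  have e : (g.toMonoidHom / MonoidHom.id W).ker = fx g := by
    ext w
    simp [mem_fx, MonoidHom.mem_ker, div_eq_one]
  rw [← relIndex_ker, e, mul_comm, inf_comm]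
  exact CL.card_inf_mul_relIndex _ _

theorem card_sup_inf (U U' : Subgroup W) :
    Nat.card (U ⊔ U' : Subgroup W) * Nat.card (U ⊓ U' : Subgroup W) = Nat.card U * Nat.card U' := by
  rw [← CL.card_mul_relIndex_of_le (le_sup_left : U ≤ U ⊔ U'), ← CL.card_inf_mul_relIndex U U', relIndex_sup_left]
  ring

theorem card_two_pow (two : ∀ w : W, w * w = 1) (U : Subgroup W) : ∃ n, Nat.card U = 2 ^ n :=
  IsPGroup.iff_card.1 fun u => ⟨1, Subtype.ext (by simpa [sq] using two u)⟩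

theorem fx_of_pow {n : ℕ} (k : n.Coprime (orderOf g)) : fx (g ^ n) = fx g := by
  refine le_antisymm ?_ (fx_pow g n)
  obtain ⟨m, hm⟩ := exists_pow_eq_self_of_coprime k
  simpa [hm] using fx_pow (g ^ n) m

theorem fx_sq (ho : Odd (orderOf g)) : fx (g * g) = fx g := by
  rw [← sq]; exact fx_of_pow (Nat.coprime_two_left.2 ho)

theorem fx_inf_cm (two : ∀ w : W, w * w = 1) (ho : Odd (orderOf g)) : fx g ⊓ cm g = ⊥ := eq_bot_iff.2 fun w hw => by
  obtain ⟨u, e⟩ := mem_cm.1 hw.2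
  have e1 : g u = w * u := by rw [← e]; simp
  have e2 : u ∈ fx (g * g) := by
    rw [mem_fx, MulAut.mul_apply, e1, map_mul, e1, mem_fx.1 hw.1, ← mul_assoc, two, one_mul]
  rw [fx_sq ho, mem_fx] at e2
  rw [← e, e2, mul_inv_cancel]
  exact one_mem _

/-- `U = C_U(g) × [U, g]` -/
theorem dec (two : ∀ w : W, w * w = 1) (ho : Odd (orderOf g)) (hU : Iv g U) : U = U ⊓ fx g ⊔ U ⊓ cm g := by
  have h1 : U.map (g.toMonoidHom / MonoidHom.id W) ≤ U ⊓ cm g := by
    rintro _ ⟨u, hu, rfl⟩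
    exact ⟨by simpa [div_eq_mul_inv] using mul_mem (hU u hu) (inv_mem hu), u, rfl⟩
  have h2 := card_sup_inf (U ⊓ fx g) (U ⊓ cm g)
  rw [eq_bot_iff.2 ((inf_le_inf inf_le_right inf_le_right).trans (fx_inf_cm two ho).le), card_bot, mul_one] at h2
  refine (eq_of_le_of_card_ge (sup_le inf_le_left inf_le_left) ?_).symm
  rw [h2, ← card_map_cm g U, mul_comm]
  exact Nat.mul_le_mul_left _ (card_le_of_le h1)

theorem card_dec (two : ∀ w : W, w * w = 1) (ho : Odd (orderOf g)) (hU : Iv g U) :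
    Nat.card U = Nat.card (U ⊓ fx g : Subgroup W) * Nat.card (U ⊓ cm g : Subgroup W) := by
  have h2 := card_sup_inf (U ⊓ fx g) (U ⊓ cm g)
  rwa [eq_bot_iff.2 ((inf_le_inf inf_le_right inf_le_right).trans (fx_inf_cm two ho).le), card_bot, mul_one,
    ← dec two ho hU] at h2

/-- `t` acts freely on a `⟨x, t⟩`-invariant subgroup of `[W, x]`. -/
theorem half (two : ∀ w : W, w * w = 1) (ho : Odd (orderOf x)) (tt : t * t = 1) (e : t * x * t⁻¹ = x⁻¹)
    (hU : U ≤ cm x) (hx : Iv x U) (ht : Iv t U) :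
    Nat.card U = Nat.card (U ⊓ fx t : Subgroup W) ^ 2 ∧ ∀ w ∈ U ⊓ fx t, ∃ u ∈ U, t u * u⁻¹ = w := by
  have h1 : U.map (t.toMonoidHom / MonoidHom.id W) ≤ U ⊓ fx t := by
    rintro _ ⟨u, hu, rfl⟩
    exact ⟨by simpa [div_eq_mul_inv] using mul_mem (ht u hu) (inv_mem hu), cm_le_fx two tt ⟨u, rfl⟩⟩
  have h2 := card_map_cm t U
  have h3 := card_sup_inf (U ⊓ fx t) ((U ⊓ fx t).map x.toMonoidHom)
  have h4 : U ⊓ fx t ⊓ (U ⊓ fx t).map x.toMonoidHom = ⊥ := eq_bot_iff.2 (by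
    rintro _ ⟨h5, u, hu, rfl⟩
    have e1 : x⁻¹ u = x u := by
      have := mem_fx.1 h5.2
      rw [← e, MulAut.mul_apply, MulAut.mul_apply, mem_fx.1 (fx_inv t ▸ hu.2 : u ∈ fx t⁻¹)]
      exact this
    have e2 : u ∈ fx (x * x) := by rw [mem_fx, MulAut.mul_apply, ← e1]; simp
    rw [fx_sq ho] at e2
    have : u ∈ fx x ⊓ cm x := ⟨e2, hU hu.1⟩
    rw [fx_inf_cm two ho, mem_bot] at this
    simp [this])
  rw [h4, card_bot, mul_one, card_map_of_injective x.injective] at h3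
  have h5 := card_le_of_le (sup_le inf_le_left (by
    rintro _ ⟨u, hu, rfl⟩
    exact hx u hu.1) : U ⊓ fx t ⊔ (U ⊓ fx t).map x.toMonoidHom ≤ U)
  have h6 := card_le_of_le h1
  have h7 : 0 < Nat.card (U ⊓ fx t : Subgroup W) := Nat.card_pos
  have h8 : Nat.card (U ⊓ fx t : Subgroup W) ≤ Nat.card (U.map (t.toMonoidHom / MonoidHom.id W)) :=
    Nat.le_of_mul_le_mul_right (by omega) h7
  refine ⟨by rw [← h2, le_antisymm h6 h8, sq], fun w hw => ?_⟩
  obtain ⟨u, hu, rfl⟩ := (eq_of_le_of_card_ge h1 h8).ge hw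
  exact ⟨u, hu, by simp [div_eq_mul_inv]⟩

/-- A `p`-group `P` without fixed points on an invariant subgroup. -/
theorem card_mod {p : ℕ} [Fact p.Prime] {P : Subgroup (MulAut W)} (hP : IsPGroup p P) (hU : ∀ g ∈ P, Iv g U) :
    Nat.card U ≡ Nat.card (U ⊓ fxs P : Subgroup W) [MOD p] := by
  let _ : MulAction P U :=
    { smul := fun g u => ⟨g.1 u.1, hU g.1 g.2 u.1 u.2⟩
      one_smul := fun _ => rfl
      mul_smul := fun _ _ _ => rfl }
  have := hP.card_modEq_card_fixedPoints U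
  rwa [Nat.card_congr (show MulAction.fixedPoints P U ≃ (U ⊓ fxs P : Subgroup W) from
    { toFun := fun u => ⟨u.1.1, u.1.2, mem_fxs.2 fun b hb => congrArg Subtype.val (u.2 ⟨b, hb⟩)⟩
      invFun := fun u => ⟨⟨u.1, u.2.1⟩, fun b => Subtype.ext (mem_fxs.1 u.2.2 b.1 b.2)⟩
      left_inv := fun _ => rfl
      right_inv := fun _ => rfl })] at this

/-- An element of order `p` on an invariant subgroup of `[W, x]`. -/
theorem card_mod_one (two : ∀ w : W, w * w = 1) {p : ℕ} (hp : p.Prime) (p2 : p ≠ 2) (hx : orderOf x = p) (hU : U ≤ cm x)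
    (hi : Iv x U) : Nat.card U ≡ 1 [MOD p] := by
  have := Fact.mk hp
  have h1 := card_mod (U := U) (IsPGroup.of_card (G := zpowers x) (p := p) (n := 1) (by rw [Nat.card_zpowers, hx, pow_one]))
    fun g hg => by
      obtain ⟨n, rfl⟩ := mem_powers_iff_mem_zpowers.2 hg
      exact hi.pow n
  have h2 : U ⊓ fxs (zpowers x) ≤ fx x ⊓ cm x := fun u hu => ⟨mem_fxs.1 hu.2 x (mem_zpowers x), hU hu.1⟩
  rw [fx_inf_cm two (hx ▸ hp.odd_of_ne_two p2)] at h2
  rwa [eq_bot_iff.2 h2, card_bot] at h1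

/-- A 2-group has a fixed point on a nontrivial invariant subgroup. -/
theorem exists_fix (two : ∀ w : W, w * w = 1) (hB : IsPGroup 2 B) (hU : ∀ g ∈ B, Iv g U) (h1 : U ≠ ⊥) : U ⊓ fxs B ≠ ⊥ := fun e => by
  have h2 := card_mod hB hU
  obtain ⟨n, hn⟩ := card_two_pow two U
  rw [e, card_bot, hn] at h2
  cases n with
  | zero => exact h1 (card_eq_one.1 hn)
  | succ n => rw [Nat.ModEq, pow_succ] at h2; omega

theorem Hm.odd_ord {F S : Subgroup (MulAut W)} (k : Hm F S) (hx : x ∈ F) : Odd (orderOf x) :=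
  Odd.of_dvd_nat k.odd (by rw [← Nat.card_zpowers]; exact card_dvd_of_le (zpowers_le.2 hx))

end CL.FZ.Mo
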