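import Cfsg.Agent.FGS.FZ.M0

/-!
# Theorem Z, module lemma: the small involutions commute, and their product is a central involution
-/

set_option autoImplicit false
set_option linter.unusedSectionVars false
open Cfsg Subgroup CL.MSS CL.B2

namespace CL.FZ.Mo

variable {W : Type*} [CommGroup W] [Finite W] {F S : Subgroup (MulAut W)} {a b a' t x y : MulAut W}
  {U : Subgroup W}

namespace MB

theorem b1 (k : Hm F S) (ha : Tt S a) (hx : x ∈ F) (x1 : x ≠ 1) (e : a * x * a⁻¹ = x⁻¹) :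
    Nat.card (cm x) = 16 ∧ Nat.card (cm a) = 4 ∧ cm a ≤ cm x := by
  obtain ⟨h1, h2⟩ := half k.two (k.odd_ord hx) ha.sq e le_rfl (iv_cm' (.inl (by group))) (iv_cm' (.inr e))
  have h3 : cm x ⊓ fx a ≤ cm a := fun w hw => by
    obtain ⟨u, -, rfl⟩ := h2 w hw
    exact cm_mem a u
  have h4 := card_le_of_le h3
  have h5 := ha.le
  have h6 : ¬ Nat.card (cm x) ≤ 4 := fun h => x1 (k.big x hx h)
  obtain ⟨n, hn⟩ := card_two_pow k.two (cm x ⊓ fx a)
  have h7 : Nat.card (cm x ⊓ fx a : Subgroup W) = 4 := by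
    rw [h1] at h6
    have h8 := h4.trans h5
    rw [hn] at h6 h8 ⊢
    have h9 : n ≤ 2 := (Nat.pow_le_pow_iff_right (by norm_num : 1 < 2)).1 (by simpa using h8)
    interval_cases n <;> simp_all
  refine ⟨by rw [h1, h7]; norm_num, by omega, ?_⟩
  exact (eq_of_le_of_card_ge h3 (by omega)).ge.trans inf_le_left

theorem cm_le_sq (ho : Odd (orderOf x)) : cm x ≤ cm (x * x) := by
  obtain ⟨m, hm⟩ := exists_pow_eq_self_of_coprime (x := x) (n := 2) (Nat.coprime_two_left.2 ho)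
  have := cm_pow (x ^ 2) m
  rwa [hm, sq] at this

/-- `[W, x] ≤ ⟨[W, a], [W, a]^x⟩` -/
theorem cm_le_of_inv (ho : Odd (orderOf x)) (aa : a * a = 1) (e : a * x * a⁻¹ = x⁻¹) (h1 : cm a ≤ U) (h2 : Iv x U) :
    cm x ≤ U := by
  have e1 : x * x = x * a * x⁻¹ * a := by
    rw [← e]
    calc x * x = x * (a * a) * x * (a⁻¹ * a) := by rw [aa]; group
      _ = _ := by group
  refine (cm_le_sq ho).trans ?_
  rw [e1]
  refine (cm_mul _ _).trans (sup_le ?_ h1)
  rw [cm_cj]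
  rintro _ ⟨u, hu, rfl⟩
  exact h2 u (h1 hu)

theorem le_cm (two : ∀ w : W, w * w = 1) (ho : Odd (orderOf y)) (hU : Iv y U) (h : U ⊓ fx y = ⊥) : U ≤ cm y := by
  have := dec two ho hU
  rw [h, bot_sup_eq] at this
  exact this.le.trans inf_le_right

theorem nrm3 (h3 : x ^ 3 = 1) {u : W} (hu : u ∈ cm x) : x (x u) * x u * u = 1 := by
  obtain ⟨w, rfl⟩ := mem_cm.1 hu
  have e : x (x (x w)) = w := by
    rw [← MulAut.mul_apply, ← MulAut.mul_apply, ← pow_three', h3]; rfl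
  simp only [map_mul, map_inv, e]
  group

theorem id1 (two : ∀ w : W, w * w = 1) {A B C D E : W} (e1 : A * B * C = 1) (e2 : D * E * B = 1) : A * D = E * C := by
  rw [mul_assoc] at e1 e2
  rw [eq_inv_of_mul_eq_one_left e1, eq_inv_of_mul_eq_one_left e2, inv_eq_of_mul_eq_one_right (two _),
    inv_eq_of_mul_eq_one_right (two _)]
  calc B * C * (E * B) = E * C * (B * B) := by ac_rfl
    _ = _ := by rw [two, mul_one]

theorem c3 (k : Hm F S) (hx : x ∈ F) (hy : y ∈ F) (ox : orderOf x = 3) (oy : orderOf y = 3) (c : x * y = y * x)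
    (e : cm x = cm y) (h16 : Nat.card (cm x) = 16) : x * y = 1 ∨ y⁻¹ * x = 1 := by
  by_contra hn
  rw [not_or] at hn
  have hz : y⁻¹ * x ∈ F := F.mul_mem (F.inv_mem hy) hx
  have h1 : cm (y⁻¹ * x) ≤ cm x := (cm_mul _ _).trans (sup_le (by rw [cm_inv, e]) le_rfl)
  have h2 := card_dec k.two (k.odd_ord hz) (iv_of_cm_le h1)
  rw [inf_eq_right.2 h1, h16] at h2
  have h3 : ¬ Nat.card (cm (y⁻¹ * x)) ≤ 4 := fun h => hn.2 (k.big _ hz h)
  have c' : x * (y⁻¹ * x) * x⁻¹ = y⁻¹ * x := by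
    calc x * (y⁻¹ * x) * x⁻¹ = y⁻¹ * (y * x) * y⁻¹ := by group
      _ = _ := by rw [← c]; group
  have h4 := card_mod_one k.two Nat.prime_three (by norm_num) ox (inf_le_left : cm x ⊓ fx (y⁻¹ * x) ≤ _)
    ((iv_of_cm_le le_rfl).inf (iv_fx' (.inl c')))
  have h5 : cm x ⊓ fx (y⁻¹ * x) = ⊥ := by
    rw [← card_eq_one]
    rw [Nat.ModEq] at h4
    have : Nat.card (cm x ⊓ fx (y⁻¹ * x) : Subgroup W) < 4 := by nlinarith
    omega
  have x3 : x ^ 3 = 1 := ox ▸ pow_orderOf_eq_one x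
  have y3 : y ^ 3 = 1 := oy ▸ pow_orderOf_eq_one y
  have cc : ∀ w, x (y w) = y (x w) := fun w => by rw [← MulAut.mul_apply, c, MulAut.mul_apply]
  have yy : ∀ w, y (y (y w)) = w := fun w => by
    rw [← MulAut.mul_apply, ← MulAut.mul_apply, ← pow_three', y3]; rfl
  have ix : Iv x (cm x) := iv_of_cm_le le_rfl
  have iy : Iv y (cm x) := iv_of_cm_le e.ge
  have h6 : cm x ≤ fx (x * y) := fun u hu => by
    have hv : x u * y (y u) ∈ cm x ⊓ fx (y⁻¹ * x) := by
      refine mem_inf.2 ⟨mul_mem (ix u hu) (iy _ (iy u hu)), ?_⟩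
      have e1 := nrm3 x3 hu
      have e2 := nrm3 y3 (e ▸ ix u hu)
      rw [mem_fx, MulAut.mul_apply, MulAut.inv_apply, MulEquiv.symm_apply_eq, map_mul, map_mul,
        yy, cc, cc]
      exact id1 k.two e1 e2
    rw [h5, mem_bot] at hv
    have e3 : x u = y (y u) := by
      rw [eq_inv_of_mul_eq_one_left hv, inv_eq_of_mul_eq_one_right (k.two _)]
    rw [mem_fx, c, MulAut.mul_apply, e3, yy]
  have h7 : cm (x * y) ≤ cm x := (cm_mul _ _).trans (sup_le le_rfl e.ge)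
  refine hn.1 (eq_one_of_cm (eq_bot_iff.2 ?_))
  rw [← fx_inf_cm k.two (k.odd_ord (F.mul_mem hx hy))]
  exact le_inf (h7.trans h6) le_rfl

theorem ne_two (k : Hm F S) (hx : x ∈ F) : orderOf x ≠ 2 := fun h => by
  have := k.odd_ord hx
  rw [h] at this
  exact absurd this (by decide)

theorem eq_one (k : Hm F S) (hx : x ∈ F) (h : x = x⁻¹) : x = 1 := CL.TDih.ne_inv_of_odd k.odd hx h

theorem kk (k : Hm F S) (ha : Tt S a) (ha' : Tt S a') (hx : x ∈ F) (hy : y ∈ F) (px : (orderOf x).Prime)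
    (py : (orderOf y).Prime) (c : x * y = y * x) (e : a * x * a⁻¹ = x⁻¹) (e' : a' * y * a'⁻¹ = y⁻¹)
    (cy : a * y = y * a) (cx : a' * x = x * a') : cm x ≤ fx y := by
  have x1 : x ≠ 1 := fun h => by rw [h, orderOf_one] at px; exact Nat.not_prime_one px
  have y1 : y ≠ 1 := fun h => by rw [h, orderOf_one] at py; exact Nat.not_prime_one py
  obtain ⟨h1, h2, h3⟩ := b1 k ha hx x1 e
  obtain ⟨h1', h2', h3'⟩ := b1 k ha' hy y1 e'
  have i1 : Iv y (cm a) := iv_cm' (.inl (by rw [← cy]; group))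
  have i2 : Iv x (cm a') := iv_cm' (.inl (by rw [← cx]; group))
  have c1 : x * y * x⁻¹ = y := by rw [c]; group
  have h4 := card_dec k.two (k.odd_ord hy) i1
  have h5 := card_mod_one k.two py (ne_two k hy) rfl (inf_le_right : cm a ⊓ cm y ≤ _) (i1.inf (iv_of_cm_le le_rfl))
  have p3 : ∀ p : ℕ, p.Prime → 4 ≡ 1 [MOD p] → p = 3 := fun p hp h =>
    (Nat.prime_dvd_prime_iff_eq hp Nat.prime_three).1 (by simpa using (Nat.modEq_iff_dvd' (by norm_num)).1 h.symm)
  rw [h2] at h4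
  have h6 : Nat.card (cm a ⊓ cm y : Subgroup W) ≤ 4 := h2 ▸ card_le_of_le inf_le_left
  have h7 : Nat.card (cm a ⊓ fx y : Subgroup W) ≤ 4 := h2 ▸ card_le_of_le inf_le_left
  by_cases h8 : Nat.card (cm a ⊓ cm y : Subgroup W) = 4
  · exfalso
    have h9 : cm a ≤ cm y := (eq_of_le_of_card_ge inf_le_left (by omega)).ge.trans inf_le_right
    have h10 : cm x = cm y :=
      eq_of_le_of_card_ge (cm_le_of_inv (k.odd_ord hx) ha.sq e h9 (iv_cm' (.inl c1))) (by omega)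
    have h11 := card_mod_one k.two px (ne_two k hx) rfl (h3'.trans h10.ge) i2
    rw [h2'] at h11
    rw [h8] at h5
    have cy' : a * y * a⁻¹ = y := by rw [cy]; group
    rcases c3 k hx hy (p3 _ px h11) (p3 _ py h5) c h10 h1 with h | h
    · refine x1 (eq_one k hx ?_)
      rw [← e, eq_inv_of_mul_eq_one_left h, ← conj_inv, cy']
    · refine x1 (eq_one k hx ?_)
      rw [← e, ← inv_mul_eq_one.1 h, cy']
  · have h9 : Nat.card (cm a ⊓ cm y : Subgroup W) ≠ 2 := fun h => by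
      rw [h] at h5
      exact py.one_lt.ne' (Nat.dvd_one.1 ((Nat.modEq_iff_dvd' (by norm_num)).1 h5.symm))
    have h10 : Nat.card (cm a ⊓ fx y : Subgroup W) = 4 := by
      generalize Nat.card (cm a ⊓ cm y : Subgroup W) = m at *
      generalize Nat.card (cm a ⊓ fx y : Subgroup W) = n at *
      interval_cases m <;> omega
    have h11 : cm a ≤ fx y := (eq_of_le_of_card_ge inf_le_left (by omega)).ge.trans inf_le_right
    exact cm_le_of_inv (k.odd_ord hx) ha.sq e h11 (iv_fx' (.inl c1))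

theorem inv_eq (ha : Tt S a) : a⁻¹ = a := inv_eq_of_mul_eq_one_right ha.sq

theorem tt_cj {g : MulAut W} (ha : Tt S a) (hg : g ∈ 𝐍 S) : Tt S (g * a * g⁻¹) where
  mem := (mem_normalizer_iff.1 hg a).1 ha.mem
  sq := by
    calc g * a * g⁻¹ * (g * a * g⁻¹) = g * (a * a) * g⁻¹ := by group
      _ = 1 := by rw [ha.sq]; group
  ne := fun h => ha.ne (by
    calc a = g⁻¹ * (g * a * g⁻¹) * g := by group
      _ = 1 := by rw [h]; group)
  le := (card_cm_cj g a).trans_le ha.le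

theorem cj_mem (k : Hm F S) (ha : a ∈ S) (hx : x ∈ F) : a * x * a⁻¹ ∈ F := (mem_normalizer_iff.1 (k.nrm ha) x).1 hx

theorem sq_mul (ha : Tt S a) (hb : Tt S b) (c : a * b = b * a) : a * b * (a * b) = 1 := by
  calc a * b * (a * b) = a * (b * a) * b := by group
    _ = (a * a) * (b * b) := by rw [← c]; group
    _ = 1 := by rw [ha.sq, hb.sq, mul_one]

theorem mul_ne (hb : Tt S b) (ne : a ≠ b) : a * b ≠ 1 := fun h =>
  ne ((eq_inv_of_mul_eq_one_left h).trans (inv_eq hb))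

/-- no four-group consists of small involutions -/
theorem no4 (k : Hm F S) (ha : Tt S a) (hb : Tt S b) (c : a * b = b * a) (hc : Tt S (a * b)) : False := by
  have ne : a ≠ b := fun h => hc.ne (by rw [h, hb.sq])
  let A : Subgroup (MulAut W) :=
    { carrier := {1, a, b, a * b}
      one_mem' := by simp
      mul_mem' := by
        have e1 : a * (a * b) = b := by rw [← mul_assoc, ha.sq, one_mul]
        have e2 : b * (a * b) = a := by rw [c, ← mul_assoc, hb.sq, one_mul]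
        have e3 : a * b * a = b := by rw [c, mul_assoc, ha.sq, mul_one]
        have e4 : a * b * b = a := by rw [mul_assoc, hb.sq, mul_one]
        rintro _ _ (rfl | rfl | rfl | rfl) (rfl | rfl | rfl | rfl) <;>
          simp [ha.sq, hb.sq, hc.sq, e1, e2, e3, e4, ← c]
      inv_mem' := by
        rintro _ (rfl | rfl | rfl | rfl) <;> simp [inv_eq ha, inv_eq hb, ← c] }
  have hA : ∀ s ∈ A, s = 1 ∨ Tt S s := by
    rintro _ (rfl | rfl | rfl | rfl)
    exacts [.inl rfl, .inr ha, .inr hb, .inr hc]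
  have hAS : A ≤ S := fun s hs => (hA s hs).elim (fun h => h ▸ one_mem S) fun h => h.mem
  have h2 : ∀ s ∈ A, s * s = 1 := fun s hs => (hA s hs).elim (fun h => by rw [h, mul_one]) fun h => h.sq
  have hc2 : ∀ s ∈ A, ∀ t ∈ A, s * t = t * s := fun s hs t ht => by
    rw [← inv_eq_of_mul_eq_one_right (h2 _ (A.mul_mem hs ht)), mul_inv_rev, inv_eq_of_mul_eq_one_right (h2 s hs),
      inv_eq_of_mul_eq_one_right (h2 t ht)]
  have hE : IsElementaryAbelian 2 A :=
    ⟨⟨⟨fun s t => Subtype.ext (hc2 s s.2 t t.2)⟩⟩, fun s hs => by rw [sq]; exact h2 s hs⟩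
  have h4 : Nat.card A = 2 ^ 2 := by
    have n1 : a ≠ a * b := fun h => hb.ne (by simpa using h)
    have n2 : b ≠ a * b := fun h => ha.ne (by simpa using h)
    change Nat.card ({1, a, b, a * b} : Set (MulAut W)) = 4
    rw [Nat.card_coe_set_eq, Set.ncard_insert_of_notMem (by simp [ha.ne.symm, hb.ne.symm, hc.ne.symm]),
      Set.ncard_insert_of_notMem (by simp [ne, hb.ne]), Set.ncard_pair n2]
  obtain ⟨M, hM, hMc, x, s, G⟩ := CL.TDih.exists_fam_of_nilpotent hE k.odd k.nil (hAS.trans k.nrm)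
    (eq_bot_iff.2 (k.fth ▸ inf_le_inf_right _ hAS)) h4
  have oM : Odd (Nat.card M) := Odd.of_dvd_nat k.odd (card_dvd_of_le hM)
  have hs : ∀ i, Tt S (s i) := fun i => (hA _ (G.amem i)).resolve_left (G.a_ne_one oM i)
  have c01 := G.comm 0 1 (by decide)
  have c10 := G.comm 1 0 (by decide)
  have h5 := kk k (hs 0) (hs 1) (hM (G.mem 0)) (hM (G.mem 1)) (G.prime 0) (G.prime 1) (G.x_comm hMc 0 1) (G.inv 0)
    (G.inv 1) c01 c10
  have i0 : s 0 * s 1 * x 0 * (s 0 * s 1)⁻¹ = (x 0)⁻¹ := by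
    rw [← G.inv 0, mul_assoc (s 0), c10]; group
  have i1 : s 0 * s 1 * x 1 * (s 0 * s 1)⁻¹ = (x 1)⁻¹ := by
    rw [← G.inv 1, hc2 _ (G.amem 0) _ (G.amem 1), mul_assoc (s 1), c01]; group
  have hs3 : Tt S (s 0 * s 1) := (hA _ (A.mul_mem (G.amem 0) (G.amem 1))).resolve_left fun h => by
    rw [h] at i0
    exact G.ne_one 0 (eq_one k (hM (G.mem 0)) (by simpa using i0))
  have h6 := (b1 k hs3 (hM (G.mem 0)) (G.ne_one 0) i0).2.2
  have h7 := (b1 k hs3 (hM (G.mem 1)) (G.ne_one 1) i1).2.2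
  refine hs3.ne (eq_one_of_cm (eq_bot_iff.2 ?_))
  rw [← fx_inf_cm k.two (k.odd_ord (hM (G.mem 1)))]
  exact le_inf (h6.trans h5) h7

theorem b2 (k : Hm F S) (ha : Tt S a) (hb : Tt S b) (c : a * b = b * a) (ne : a ≠ b) (hx : x ∈ F)
    (e : a * x * a⁻¹ = x⁻¹) (e' : b * x * b⁻¹ = x⁻¹) : x = 1 := by
  by_contra x1
  have ho := k.odd_ord hx
  have tr : ∀ {a}, Tt S a → a * x * a⁻¹ = x⁻¹ → ∀ u ∈ fx x, a u = u := fun {a} ha e u hu => by
    have : a u * u⁻¹ ∈ fx x ⊓ cm x :=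
      mem_inf.2 ⟨mul_mem (iv_fx' (.inr e) u hu) (inv_mem hu), (b1 k ha hx x1 e).2.2 (cm_mem a u)⟩
    rwa [fx_inf_cm k.two ho, mem_bot, mul_inv_eq_one] at this
  have h16 := (b1 k ha hx x1 e).1
  have h1 : cm (a * b) ≤ cm x := (cm_mul _ _).trans (sup_le (b1 k ha hx x1 e).2.2 (b1 k hb hx x1 e').2.2)
  have h2 : cm (a * b) ≤ (cm x).map ((a * b).toMonoidHom / MonoidHom.id W) := fun w hw => by
    obtain ⟨u, rfl⟩ := mem_cm.1 hw
    have h3 := (dec k.two ho (U := ⊤) fun _ _ => mem_top _).le (mem_top u)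
    obtain ⟨p, hp, q, hq, rfl⟩ := mem_sup.1 h3
    refine ⟨q, hq.2, ?_⟩
    have : (a * b) p = p := by rw [MulAut.mul_apply, tr hb e' p hp.2, tr ha e p hp.2]
    rw [map_mul, this, mul_inv, mul_mul_mul_comm, mul_inv_cancel, one_mul]
    simp [div_eq_mul_inv]
  have h3 := card_map_cm (a * b) (cm x)
  have h4 := card_le_of_le h2
  have h5 := card_le_of_le (le_inf h1 (cm_le_fx k.two (sq_mul ha hb c)))
  exact no4 k ha hb c ⟨S.mul_mem ha.mem hb.mem, sq_mul ha hb c, mul_ne hb ne, by nlinarith⟩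

theorem exists_inv (k : Hm F S) (ha : Tt S a) : ∃ x ∈ F, (orderOf x).Prime ∧ a * x * a⁻¹ = x⁻¹ := by
  have h1 : ∃ x ∈ F, x ≠ 1 ∧ a * x * a⁻¹ = x⁻¹ := by
    by_contra hn
    refine ha.ne (mem_bot.1 (k.fth ▸ mem_inf.2 ⟨ha.mem, mem_centralizer_iff.2 fun x hx => ?_⟩))
    obtain ⟨c, -, s, hs, h1, h2, rfl⟩ := CL.TDih.exists_fixed_mul_inverted k.odd ha.sq (k.nrm ha.mem) hx
    have : s = 1 := by_contra fun h => hn ⟨s, hs, h, h2⟩
    rw [this, mul_one]
    exact (mul_inv_eq_iff_eq_mul.1 h1).symm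
  obtain ⟨x, hx, x1, e⟩ := h1
  obtain ⟨p, hp, n, hn⟩ := Nat.exists_prime_and_dvd (mt orderOf_eq_one_iff.1 x1)
  have h0 : orderOf x ≠ 0 := (orderOf_pos x).ne'
  have hn0 : n ≠ 0 := by rintro rfl; exact h0 (by simpa using hn)
  refine ⟨x ^ n, F.pow_mem hx n, ?_, by rw [← conj_pow, e, inv_pow]⟩
  rw [orderOf_pow' x hn0, hn, Nat.gcd_mul_left_left, Nat.mul_div_cancel _ (Nat.pos_of_ne_zero hn0)]
  exact hp

end MB

open MB

/-- An element of `F` inverted by a small involution is centralized by the others that commute with it. -/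
theorem Hm.cent (k : Hm F S) (ha : Tt S a) (hb : Tt S b) (c : a * b = b * a) (ne : a ≠ b) (hx : x ∈ F)
    (e : a * x * a⁻¹ = x⁻¹) : b * x = x * b := by
  have hc := S.mul_mem ha.mem hb.mem
  have eb : ∀ y, b * y * b⁻¹ = a * (a * b * y * (a * b)⁻¹) * a⁻¹ := fun y => by
    calc b * y * b⁻¹ = (a * a) * b * y * b⁻¹ * (a * a)⁻¹ := by rw [ha.sq]; group
      _ = _ := by group
  have h1 : ∀ y ∈ F, a * b * y * (a * b)⁻¹ = y → a * y * a⁻¹ = y := fun y hy h => by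
    have e1 : a * (y⁻¹ * (a * y * a⁻¹)) * a⁻¹ = (y⁻¹ * (a * y * a⁻¹))⁻¹ := by
      calc a * (y⁻¹ * (a * y * a⁻¹)) * a⁻¹ = a * y⁻¹ * a * y * (a * a)⁻¹ := by group
        _ = a * y⁻¹ * a⁻¹ * y := by rw [ha.sq, inv_eq ha]; group
        _ = _ := by group
    have e2 : a * b * (y⁻¹ * (a * y * a⁻¹)) * (a * b)⁻¹ = y⁻¹ * (a * y * a⁻¹) := by
      calc a * b * (y⁻¹ * (a * y * a⁻¹)) * (a * b)⁻¹
          = (a * b * y * (a * b)⁻¹)⁻¹ * (a * (b * a) * y * (b * a)⁻¹ * a⁻¹) := by group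
        _ = _ := by rw [← c, h, mul_assoc a (a * b), mul_assoc a (a * b * y), h]
    have := b2 k ha hb c ne (F.mul_mem (F.inv_mem hy) (cj_mem k ha.mem hy)) e1 (by rw [eb, e2, e1])
    exact (inv_mul_eq_one.1 this).symm
  obtain ⟨m, hm, i, hi, h2, h3, rfl⟩ := CL.TDih.exists_fixed_mul_inverted k.odd (sq_mul ha hb c) (k.nrm hc) hx
  have h4 := h1 m hm h2
  have h5 : a * i * a⁻¹ = m⁻¹ * i⁻¹ * m⁻¹ := by
    calc a * i * a⁻¹ = (a * m * a⁻¹)⁻¹ * (a * (m * i) * a⁻¹) := by group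
      _ = _ := by rw [h4, e]; group
  have h6 : i * (m * m) * i⁻¹ = (m * m)⁻¹ := by
    have e1 : a * b * (a * i * a⁻¹) * (a * b)⁻¹ = (a * i * a⁻¹)⁻¹ := by
      calc a * b * (a * i * a⁻¹) * (a * b)⁻¹ = a * (b * a * i * (b * a)⁻¹) * a⁻¹ := by group
        _ = _ := by rw [← c, h3]; group
    have e2 : a * b * (m⁻¹ * i⁻¹ * m⁻¹) * (a * b)⁻¹ = m⁻¹ * i * m⁻¹ := by
      calc a * b * (m⁻¹ * i⁻¹ * m⁻¹) * (a * b)⁻¹
          = (a * b * m * (a * b)⁻¹)⁻¹ * (a * b * i * (a * b)⁻¹)⁻¹ * (a * b * m * (a * b)⁻¹)⁻¹ := by group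
        _ = _ := by rw [h2, h3, inv_inv]
    rw [h5, e2] at e1
    calc i * (m * m) * i⁻¹ = m⁻¹ * (m⁻¹ * i⁻¹ * m⁻¹)⁻¹ * m * i⁻¹ := by group
      _ = _ := by rw [← e1]; group
  have h7 : Commute i (m * m) := by
    have e1 : Commute (i ^ 2) (m * m) := by
      rw [commute_iff_eq, ← mul_inv_eq_iff_eq_mul]
      calc i ^ 2 * (m * m) * (i ^ 2)⁻¹ = i * (i * (m * m) * i⁻¹) * i⁻¹ := by rw [sq]; group
        _ = _ := by rw [h6, ← conj_inv, h6, inv_inv]
    obtain ⟨n, hn⟩ := exists_pow_eq_self_of_coprime (x := i) (n := 2) (Nat.coprime_two_left.2 (k.odd_ord hi))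
    exact hn ▸ e1.pow_left n
  have h8 : m = 1 := eq_one k hm (eq_inv_of_mul_eq_one_left (eq_one k (F.mul_mem hm hm) (by
    rw [← h6, h7.eq]; group)))
  subst h8
  rw [one_mul] at e ⊢
  rw [← mul_inv_eq_iff_eq_mul, eb, h3, ← conj_inv, e, inv_inv]

theorem MB.b3 (k : Hm F S) (ha : Tt S a) (hb : Tt S b) (c : a * (b * a * b⁻¹) = b * a * b⁻¹ * a) : a = b * a * b⁻¹ := by
  by_contra ne
  have ha' := tt_cj ha (le_normalizer hb.mem)
  have hb' := tt_cj hb (le_normalizer ha.mem)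
  obtain ⟨x, hx, px, e⟩ := exists_inv k ha
  have hy := cj_mem k hb.mem hx
  have py : (orderOf (b * x * b⁻¹)).Prime := by
    rwa [show b * x * b⁻¹ = MulAut.conj b x from rfl, MulEquiv.orderOf_eq]
  have e' : b * a * b⁻¹ * (b * x * b⁻¹) * (b * a * b⁻¹)⁻¹ = (b * x * b⁻¹)⁻¹ := by
    rw [conj_inv (a := x), ← e]; group
  have cx := k.cent ha ha' c ne hx e
  have cy := k.cent ha' ha c.symm (Ne.symm ne) hy e'
  have bb : b * (b * x * b⁻¹) * b⁻¹ = x := by
    calc b * (b * x * b⁻¹) * b⁻¹ = (b * b) * x * (b * b)⁻¹ := by group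
      _ = _ := by rw [hb.sq]; group
  have cb : b * (a * b * a⁻¹) = a * b * a⁻¹ * b := by
    rw [inv_eq hb] at c
    rw [inv_eq ha]
    calc b * (a * b * a) = b * a * b * a := by group
      _ = _ := by rw [← c]; group
  have eb : a * (b * a * b⁻¹) = a * b * a⁻¹ * b := by rw [inv_eq ha, inv_eq hb]; group
  have nb : b ≠ a * b * a⁻¹ := fun h => ne (by
    rw [eq_mul_inv_iff_mul_eq] at h ⊢
    exact h.symm)
  have x1 : x ≠ 1 := fun h => by rw [h, orderOf_one] at px; exact Nat.not_prime_one px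
  have e1 : b * (x * (b * x * b⁻¹)⁻¹) * b⁻¹ = (x * (b * x * b⁻¹)⁻¹)⁻¹ := by
    calc b * (x * (b * x * b⁻¹)⁻¹) * b⁻¹ = b * x * b⁻¹ * (b * (b * x * b⁻¹) * b⁻¹)⁻¹ := by group
      _ = _ := by rw [bb]; group
  generalize b * x * b⁻¹ = y at *
  generalize b * a * b⁻¹ = a' at *
  have hz : x * y⁻¹ ∈ F := F.mul_mem hx (F.inv_mem hy)
  have cy' : a * y * a⁻¹ = y := by rw [cy]; group
  have e2 := k.cent hb hb' cb nb hz e1
  have c1 : x * y = y * x := by
    have e3 : a * a' * (x * y⁻¹) * (a * a')⁻¹ = x⁻¹ * y := by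
      calc a * a' * (x * y⁻¹) * (a * a')⁻¹ = a * ((a' * x) * a'⁻¹ * (a' * y * a'⁻¹)⁻¹) * a⁻¹ := by group
        _ = (a * x * a⁻¹) * (a * y * a⁻¹) := by rw [cx, e']; group
        _ = _ := by rw [e, cy']
    have e4 : a * a' * (x * y⁻¹) * (a * a')⁻¹ = y * x⁻¹ := by
      rw [eb, ← cb]
      calc b * (a * b * a⁻¹) * (x * y⁻¹) * (b * (a * b * a⁻¹))⁻¹
          = b * (a * b * a⁻¹ * (x * y⁻¹)) * (a * b * a⁻¹)⁻¹ * b⁻¹ := by group
        _ = b * (x * y⁻¹) * b⁻¹ := by rw [e2]; group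
        _ = _ := by rw [e1]; group
    calc x * y = x * (y * x⁻¹) * x := by group
      _ = _ := by rw [← e4, e3]; group
  have h1 := kk k ha ha' hx hy px py c1 e e' cy cx
  have h2 := kk k ha' ha hy hx py px c1.symm e' e cx cy
  have y1 : y ≠ 1 := fun h => by rw [h, orderOf_one] at py; exact Nat.not_prime_one py
  have z1 : x * y⁻¹ ≠ 1 := fun h => x1 (eq_one k hx (by rw [← e, mul_inv_eq_one.1 h, cy']))
  have h16 := (b1 k hb hz z1 e1).1
  have hx16 := (b1 k ha hx x1 e).1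
  have hy16 := (b1 k ha' hy y1 e').1
  have a1 : ∀ u ∈ cm x, (x * y⁻¹) u = x u := fun u hu => by
    rw [MulAut.mul_apply, mem_fx.1 (fx_inv y ▸ h1 hu : u ∈ fx y⁻¹)]
  have a2 : ∀ u ∈ cm y, y⁻¹ u ∈ cm y := iv_of_cm_le (cm_inv y).le
  have a3 : ∀ u ∈ cm y, (x * y⁻¹) u = y⁻¹ u := fun u hu => by
    rw [MulAut.mul_apply, mem_fx.1 (h2 (a2 u hu))]
  have h3 : cm x ≤ cm (x * y⁻¹) := le_cm k.two (k.odd_ord hz)
    (fun u hu => a1 u hu ▸ iv_of_cm_le le_rfl u hu) (eq_bot_iff.2 fun u hu => by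
      rw [← fx_inf_cm k.two (k.odd_ord hx)]
      exact mem_inf.2 ⟨(a1 u hu.1).symm.trans hu.2, hu.1⟩)
  have h4 : cm y ≤ cm (x * y⁻¹) := le_cm k.two (k.odd_ord hz)
    (fun u hu => a3 u hu ▸ a2 u hu) (eq_bot_iff.2 fun u hu => by
      rw [← fx_inf_cm k.two (k.odd_ord hy), ← fx_inv]
      exact mem_inf.2 ⟨(a3 u hu.1).symm.trans hu.2, hu.1⟩)
  have h5 : cm x = cm y := (eq_of_le_of_card_ge h3 (by omega)).trans (eq_of_le_of_card_ge h4 (by omega)).symm
  refine y1 (eq_one_of_cm (eq_bot_iff.2 ?_))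
  rw [← fx_inf_cm k.two (k.odd_ord hy)]
  exact le_inf (h5.ge.trans h1) le_rfl

/-- The small involutions commute. -/
theorem Hm.comm (k : Hm F S) (ha : Tt S a) (hb : Tt S b) : a * b = b * a := by
  have key : ∀ n : ℕ, ∀ a b : MulAut W, Tt S a → Tt S b → (a * b) ^ 2 ^ n = 1 → a * b = b * a := by
    intro n
    induction n with
    | zero =>
      intro a b ha hb h
      rw [pow_zero, pow_one] at h
      rw [h, mul_eq_one_comm.1 h]
    | succ n ih =>
      intro a b ha hb h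
      have e : a * (b * a * b⁻¹) = (a * b) ^ 2 := by rw [inv_eq hb, sq]; group
      have := b3 k ha hb (ih _ _ ha (tt_cj ha (le_normalizer hb.mem)) (by rw [e, ← pow_mul, ← pow_succ', h]))
      exact eq_mul_inv_iff_mul_eq.1 this
  obtain ⟨n, hn⟩ := k.pS ⟨a * b, S.mul_mem ha.mem hb.mem⟩
  exact key n a b ha hb (congrArg Subtype.val hn)

/-- The product of the small involutions. -/
theorem Hm.prod (k : Hm F S) (ht : Tt S t) : ∃ z ∈ S, z * z = 1 ∧ z ≠ 1 ∧ ∀ g ∈ 𝐍 S, g * z = z * g := by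
  classical
  let A := closure {s | Tt S s}
  have : IsMulCommutative A := isMulCommutative_closure fun a ha b hb => k.comm ha hb
  let _ : CommGroup A := { (inferInstance : Group A) with mul_comm := this.is_comm.comm }
  let _ := Fintype.ofFinite {s // Tt S s}
  let ι : {s // Tt S s} → A := fun s => ⟨s.1, subset_closure s.2⟩
  have hAS : A ≤ S := (closure_le S).2 fun s hs => hs.mem
  refine ⟨(∏ s, ι s : A), hAS (∏ s, ι s).2, ?_, ?_, fun g hg => ?_⟩
  · have : (∏ s, ι s) * ∏ s, ι s = 1 := by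
      rw [← Finset.prod_mul_distrib]
      exact Finset.prod_eq_one fun s _ => Subtype.ext s.2.sq
    exact congrArg Subtype.val this
  · obtain ⟨x, hx, px, e⟩ := exists_inv k ht
    have x1 : x ≠ 1 := fun h => by rw [h, orderOf_one] at px; exact Nat.not_prime_one px
    have h1 : ∏ s ∈ Finset.univ.erase ⟨t, ht⟩, ι s ∈ (centralizer {x}).subgroupOf A :=
      Subgroup.prod_mem _ fun s hs => mem_subgroupOf.2 (mem_centralizer_singleton_iff.2
        (k.cent ht s.2 (k.comm ht s.2) (fun h => Finset.ne_of_mem_erase hs (Subtype.ext h.symm)) hx e))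
    rw [← Finset.mul_prod_erase _ _ (Finset.mem_univ ⟨t, ht⟩)]
    rw [mem_subgroupOf, mem_centralizer_singleton_iff] at h1
    intro h
    generalize ∏ s ∈ Finset.univ.erase ⟨t, ht⟩, ι s = r at h h1
    have h2 : t = (r : MulAut W)⁻¹ := eq_inv_of_mul_eq_one_left h
    refine x1 (eq_one k hx ?_)
    rw [← e, h2, mul_assoc, inv_inv, ← h1]
    group
  · have hA : ∀ s : A, ((MulAut.conj g).toMonoidHom.comp A.subtype) s ∈ A := fun s => by
      have : A.map (MulAut.conj g).toMonoidHom ≤ A := by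
        rw [MonoidHom.map_closure, closure_le]
        rintro _ ⟨s, hs, rfl⟩
        exact subset_closure (tt_cj hs hg)
      exact this ⟨s, s.2, rfl⟩
    let σ : {s // Tt S s} → {s // Tt S s} := fun s => ⟨g * s * g⁻¹, tt_cj s.2 hg⟩
    have hσ : Function.Bijective σ := Finite.injective_iff_bijective.1 fun s s' h =>
      Subtype.ext (by simpa [σ] using h)
    have h1 := map_prod (((MulAut.conj g).toMonoidHom.comp A.subtype).codRestrict A hA) ι Finset.univ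
    have h2 : ∏ s, (((MulAut.conj g).toMonoidHom.comp A.subtype).codRestrict A hA) (ι s) = ∏ s, ι s :=
      hσ.prod_comp ι
    rw [h2] at h1
    exact mul_inv_eq_iff_eq_mul.1 (congrArg Subtype.val h1)

end CL.FZ.Mo
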