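import Cfsg.Agent.FGS.CO.Bas

/-!
# Theorem Z: definitions for the endgame
-/

set_option autoImplicit false
open Cfsg Subgroup CL.Th CL.MSS CL.Push CL.BHS CL.B2
open CL.CO (V4 Bq)
open scoped commutatorElement

namespace CL.FZ

variable {X : Type*} [Group X]

/-- The 2-groups over `B(R)` normalizing `J(C_B(v))` have the Thompson and Baumann subgroups of `R`. -/
def Ov (R : Subgroup X) (v : X) : Prop :=
  ∀ P : Subgroup X, IsPGroup 2 P → Bm R ≤ P → P ≤ 𝐍 (Jt (Bm R ⊓ 𝐜 v)) → Jt P = Jt R ∧ Bm P = Bm R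

/-- In every 2-group over `N`, `C(v)` centralizes `z` and no nontrivial commutator of `C(v)` lies in `V4 z v`. -/
def Un (N : Subgroup X) (z v : X) : Prop :=
  ∀ P : Subgroup X, IsPGroup 2 P → N ≤ P → ∀ t ∈ P, t * v = v * t →
    t * z = z * t ∧ ∀ u ∈ P, u * v = v * u → ⁅t, u⁆ ∈ V4 z v → ⁅t, u⁆ = 1

/-- A pair of blocks with the universal property. -/
structure Bu (S : Subgroup X) (z v w x y : X) : Prop extends Bq S z v w x y where
  ul : Un (S ⊓ 𝐜 v ⊔ zpowers w) z v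
  ur : Un (S ⊓ 𝐜 w ⊔ zpowers v) z w

end CL.FZ
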