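import Cfsg.Agent.FGS.FZ.E8

/-!
# Theorem Z: the endgame definitions relative to a subgroup `G`
-/

set_option autoImplicit false
set_option linter.unusedSectionVars false
open Cfsg Subgroup CL.Th CL.MSS CL.Push CL.BHS CL.B2
open CL.CO (V4 Bq A4 mem_V4 z_V4 v_V4 V4_le)
open scoped commutatorElement

namespace CL.FZ

section
variable {X : Type*} [Group X]

/-- The 2-subgroups of `G` over `B(R)` normalizing `J(C_B(v))` have the Thompson and Baumann subgroups of `R`. -/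
def OvG (G R : Subgroup X) (v : X) : Prop :=
  ∀ P : Subgroup X, IsPGroup 2 P → P ≤ G → Bm R ≤ P → P ≤ 𝐍 (Jt (Bm R ⊓ 𝐜 v)) → Jt P = Jt R ∧ Bm P = Bm R

/-- In every 2-subgroup of `G` over `N`, `C(v)` centralizes `z` and no nontrivial commutator of `C(v)` lies in `V4 z v`. -/
def UnG (G N : Subgroup X) (z v : X) : Prop :=
  ∀ P : Subgroup X, IsPGroup 2 P → P ≤ G → N ≤ P → ∀ t ∈ P, t * v = v * t →
    t * z = z * t ∧ ∀ u ∈ P, u * v = v * u → ⁅t, u⁆ ∈ V4 z v → ⁅t, u⁆ = 1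

/-- A pair of blocks with the universal property. -/
structure BuG (G S : Subgroup X) (z v w x y : X) : Prop extends Bq S z v w x y where
  xG : x ∈ G
  yG : y ∈ G
  ul : UnG G (S ⊓ 𝐜 v ⊔ zpowers w) z v
  ur : UnG G (S ⊓ 𝐜 w ⊔ zpowers v) z w

end

open E8

variable {X : Type*} [Group X] [Finite X] {z v u x y p g : X} {G N : Subgroup X}

/-- The automizer of `E = ⟨z, v, u⟩` has order divisible by eight, so a Sylow 2-subgroup of `N(E)` over `N` has an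
element that centralizes `v` but not `E`. -/
theorem e8G (xG : x ∈ G) (yG : y ∈ G) (pG : p ∈ G) (NG : N ≤ G) (k : A4 z v x) (k' : A4 z u y) (vu : v * u = u * v) (hu : u ∉ V4 z v) (xu : x * u * x⁻¹ * u⁻¹ ∈ V4 z v)
    (yv : y * v * y⁻¹ * v⁻¹ ∈ V4 z u) (pz : p * z = z * p) (pv : p * v * p⁻¹ = v * z)
    (pu : p * u * p⁻¹ = u ∨ p * u * p⁻¹ = u * z) (hN : IsPGroup 2 N) (uN : u ∈ N)
    (nE : N ≤ 𝐍 (V4 z v ⊔ zpowers u : Subgroup X)) (U : UnG G N z v) : False := by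
  classical
  have h : Hy z v u := ⟨k.zz, k.vv, k'.vv, k.zv, k'.zv, vu, k.ne, k.v_ne, k.v_ne_z, hu⟩
  obtain ⟨a, b, e1⟩ := ex_V h xu
  obtain ⟨c, d, e2⟩ : ∃ c d, y * v * y⁻¹ = ph z v u (c, 1, d) := by
    rcases (mem_V4 k'.zz k'.vv k'.zv).1 yv with q | q | q | q <;> rw [mul_inv_eq_iff_eq_mul] at q <;> rw [q]
    exacts [⟨0, 0, by simp [ph, ZMod.val_one]⟩, ⟨1, 0, by simp [ph, ZMod.val_one]⟩, ⟨0, 1, by simp [ph, ZMod.val_one, vu]⟩,
      ⟨1, 1, by simp only [ph, ZMod.val_one, pow_one]; rw [← h.zu.eq, mul_assoc, mul_assoc, vu]⟩]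
  obtain ⟨e, e3⟩ : ∃ e, p * u * p⁻¹ = ph z v u (e, 0, 1) := by
    rcases pu with q | q
    exacts [⟨0, by simp [q, ph, ZMod.val_one]⟩, ⟨1, by simp [q, ph, ZMod.val_one, h.zu.eq]⟩]
  have hk : ∀ i w, ![x, y, p] i * ph z v u w * (![x, y, p] i)⁻¹ = ph z v u (gn a b c d e i w) := fun i => by
    fin_cases i
    · exact act h (by simp [k.xz, ph, ZMod.val_one]) (by simp [k.xv, ph, ZMod.val_one, h.zv.eq])
        (by rw [ph_one h, ← e1]; simp)
    · exact act h (by simp [k'.xz, ph, ZMod.val_one]) e2 (by simp [k'.xv, ph, ZMod.val_one, h.zu.eq])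
    · exact act h (by simp [pz, ph, ZMod.val_one]) (by simp [pv, ph, ZMod.val_one, h.zv.eq]) e3
  generalize hE : V4 z v ⊔ zpowers u = E at nE
  have mE : ∀ w, ph z v u w ∈ E := fun w => hE ▸ ph_mem h w
  have oE : ∀ g ∈ E, ∃ w, g = ph z v u w := fun g hg => ph_onto h (hE ▸ hg)
  have nk : ∀ l : List (Fin 3), (l.map ![x, y, p]).prod ∈ 𝐍 E := fun l =>
    mem_normalizer_of_cj_le (cj_le_iff_forall.2 fun g hg => by
      obtain ⟨w, rfl⟩ := oE g hg
      rw [act_ev hk]; exact mE _)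
  let f : 𝐍 E →* Equiv.Perm E := (MulAut.toPerm E).comp E.normalizerMonoidHom
  have fa : ∀ (g : 𝐍 E) (t : E), (f g t : X) = g * t * (g : X)⁻¹ := fun g t => rfl
  let Γ : List (Fin 3) → Equiv.Perm E := fun l => f ⟨_, nk l⟩
  have Ga : ∀ l l', Γ (l ++ l') = Γ l * Γ l' := fun l l' => by
    simp only [Γ, ← map_mul]; congr 1; ext; simp
  have G1 : ∀ l, Γ l = 1 ↔ ∀ w, ev (gn a b c d e) l w = w := fun l => ⟨fun q w => ph_inj h (by
      rw [← act_ev hk]; exact (fa ⟨_, nk l⟩ ⟨_, mE w⟩).symm.trans (by rw [show f _ = Γ l from rfl, q]; rfl)),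
    fun q => Equiv.ext fun t => Subtype.ext (by
      obtain ⟨w, e⟩ := oE t t.2
      rw [fa, e, act_ev hk, q]; exact e.symm)⟩
  obtain ⟨⟨l, l'⟩, -, q1, q2, q3, q4⟩ := words a b c d e
  rw [← G1, Ga] at q1 q2
  rw [← G1, Ga, Ga, Ga] at q3
  have q5 : Γ l * Γ l' * (Γ l * Γ l') ≠ 1 := fun q => by
    rw [← Ga, ← Ga, G1] at q
    obtain ⟨w, hw⟩ := q4
    exact hw (q w)
  obtain ⟨d1, d2⟩ := d8 q1 q2 q3 q5
  obtain ⟨P, hP, NP⟩ := exists_sylIn_ge hN (le_inf NG nE)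
  have mG : ∀ l, Γ l ∈ ((G ⊓ 𝐍 E).subgroupOf (𝐍 E)).map f := fun l => ⟨_, ⟨list_prod_mem fun g hg => by
    obtain ⟨i, -, rfl⟩ := List.mem_map.1 hg
    fin_cases i
    exacts [xG, yG, pG], nk l⟩, rfl⟩
  have c1 := d2.trans (((hP.subgroupOf inf_le_right).map f).card_le d1
    (sup_le (zpowers_le.2 (mul_mem (mG l) (mG l'))) (zpowers_le.2 (mG l))))
  have vE : v ∈ E := hE ▸ mem_sup_left v_V4
  have c2 : Nat.card E ≤ 8 := (Nat.card_le_card_of_surjective (fun w : W => (⟨_, mE w⟩ : E)) fun t =>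
    let ⟨w, e⟩ := oE t t.2; ⟨w, Subtype.ext e.symm⟩).trans (by simp [W])
  have key : ∀ s ∈ (P.subgroupOf (𝐍 E)).map f, s ⟨v, vE⟩ = ⟨v, vE⟩ → s = 1 := by
    rintro _ ⟨t, ht, rfl⟩ q
    have tv : t * v = v * t := mul_inv_eq_iff_eq_mul.1 ((fa t ⟨v, vE⟩).symm.trans (congrArg Subtype.val q))
    obtain ⟨tz, tu⟩ := U P hP.pgroup (hP.le.trans inf_le_left) NP t ht tv
    have cV : ∀ a b, (t : X) * ph z v u (a, b, 0) * (t : X)⁻¹ = ph z v u (a, b, 0) := fun a b => by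
      refine mul_inv_eq_of_eq_mul (Commute.eq ?_)
      simp only [ph, ZMod.val_zero, pow_zero, mul_one]
      exact ((show Commute (t : X) z from tz).pow_right _).mul_right ((show Commute (t : X) v from tv).pow_right _)
    obtain ⟨⟨a, b, c⟩, e⟩ := oE _ ((mem_normalizer_iff.1 t.2 u).1 (hE ▸ mem_sup_right (mem_zpowers u)))
    have t2 : ∀ a : ZMod 2, a = 0 ∨ a = 1 := by decide
    rcases t2 c with rfl | rfl
    · rw [← cV] at e
      exact absurd (CL.CO.cj_can e ▸ ph_V h a b) hu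
    have tu' : (t : X) * u * (t : X)⁻¹ = u := mul_inv_eq_one.1 (tu u (NP uN) vu.symm (by
      rw [commutatorElement_def, e, ph_one h, mul_inv_cancel_right]; exact ph_V h a b))
    refine Equiv.ext fun s => Subtype.ext ?_
    obtain ⟨⟨a, b, c⟩, e⟩ := oE s s.2
    rw [fa, Equiv.Perm.one_apply, e]
    rcases t2 c with rfl | rfl
    · exact cV a b
    · rw [ph_one h, ← conj_mul, cV, tu']
  have := Fintype.ofFinite ((P.subgroupOf (𝐍 E)).map f)
  have := Fintype.ofFinite E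
  have c3 := Fintype.card_lt_of_injective_of_notMem (fun s : (P.subgroupOf (𝐍 E)).map f => s.1 ⟨v, vE⟩)
    (fun s s' q => Subtype.ext (inv_mul_eq_one.1 (key _ (mul_mem (inv_mem s.2) s'.2) (by
      rw [Equiv.Perm.mul_apply, ← show s.1 _ = s'.1 _ from q]; simp)))) (b := 1) (by
    rintro ⟨⟨_, t, ht, rfl⟩, q⟩
    exact k.v_ne (by simpa using (fa t ⟨v, vE⟩).symm.trans (congrArg Subtype.val q)))
  rw [← Nat.card_eq_fintype_card, ← Nat.card_eq_fintype_card] at c3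
  omega

end CL.FZ
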